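import Mathlib
import Cfsg.Agent.Lib.SL2.MaxList
import Cfsg.Agent.Lib.Classical.ThreePoints

/-!
`PGL(2, F)` with its subgroup `PSL(2, F)`, and its embedding into `PSL(2, E)` for `|E| = |F| ^ 2`.
-/

set_option autoImplicit false
set_option linter.unusedSectionVars false
set_option maxHeartbeats 400000

namespace CfsgLib.SL2.PGLMax

open Matrix
open scoped MatrixGroups Pointwise

variable {F : Type*} [Field F] [Finite F]

/-- `PSL(2, F)` inside `PGL(2, F)`. -/
def LL (F : Type*) [Field F] : Subgroup (ProjGenLinGroup (Fin 2) F) :=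
  (ProjectiveSpecialLinearGroup.toPGL (n := Fin 2) (R := F)).range

instance finite_pgl : Finite (ProjGenLinGroup (Fin 2) F) :=
  Finite.of_surjective _ ProjGenLinGroup.mk_surjective

theorem range_comp_eq_LL :
    (ProjGenLinGroup.mk.comp Matrix.SpecialLinearGroup.toGL).range = LL F := by
  apply le_antisymm
  · rintro _ ⟨X, rfl⟩; exact ⟨proj X, rfl⟩
  · rintro _ ⟨x, rfl⟩
    obtain ⟨X, rfl⟩ := proj_surjective x
    exact ⟨X, rfl⟩

theorem card_pgl : Nat.card (ProjGenLinGroup (Fin 2) F) =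
    Nat.card F * ((Nat.card F - 1) * (Nat.card F + 1)) := by
  rw [CfsgLib.Classical.card_PGL_eq_card_SL, card_SL_two']

theorem card_LL (hodd : Odd (Nat.card F)) :
    2 * Nat.card (LL F) = Nat.card (ProjGenLinGroup (Fin 2) F) := by
  rw [card_pgl, LL, ← Nat.card_congr
    (MonoidHom.ofInjective (ProjectiveSpecialLinearGroup.toPGL_injective (n := Fin 2) (R := F))).toEquiv,
    ← card_PSL (F := F), show Nat.gcd 2 (Nat.card F - 1) = 2 from dd_of_odd hodd]

theorem index_LL (hodd : Odd (Nat.card F)) : (LL F).index = 2 := by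
  have h := (LL F).card_mul_index
  rw [← card_LL hodd, mul_comm 2] at h
  exact Nat.eq_of_mul_eq_mul_left Nat.card_pos h

theorem normal_LL (hodd : Odd (Nat.card F)) : (LL F).Normal :=
  Subgroup.normal_of_index_eq_two (index_LL hodd)

theorem isSimple_LL (h4 : 4 ≤ Nat.card F) : IsSimpleGroup (LL F) :=
  have := (four_le_card_of_isSimple (K := F) h4).1
  MulEquiv.isSimpleGroup
    (MonoidHom.ofInjective (ProjectiveSpecialLinearGroup.toPGL_injective (n := Fin 2) (R := F))).symm

theorem mem_LL_of_pow {m : ℕ} (hodd : Odd (Nat.card F)) (hm : Odd m)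
    {y : ProjGenLinGroup (Fin 2) F} (hy : y ^ m = 1) : y ∈ LL F := by
  obtain ⟨j, rfl⟩ := hm
  have h2 := Subgroup.sq_mem_of_index_two (index_LL hodd) y
  have h := (LL F).inv_mem ((LL F).pow_mem h2 j)
  rw [pow_succ] at hy
  have e : y = ((y ^ 2) ^ j)⁻¹ := by
    rw [← pow_mul]; exact (inv_eq_of_mul_eq_one_right hy).symm
  rw [e]; exact h

/-- A maximal subgroup not above `PSL(2, F)`, and its intersection with it. -/
theorem card_inf_LL (hodd : Odd (Nat.card F)) {M : Subgroup (ProjGenLinGroup (Fin 2) F)}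
    (hM : IsCoatom M) (hL : ¬ LL F ≤ M) :
    ¬ M ≤ LL F ∧ Nat.card M = 2 * Nat.card (M ⊓ LL F : Subgroup _) := by
  have hnle : ¬ M ≤ LL F := fun h => hL (by
    rcases hM.le_iff.1 h with e | e
    · have := index_LL (F := F) hodd
      rw [e, Subgroup.index_top] at this
      omega
    · exact e.le)
  refine ⟨hnle, ?_⟩
  have hr : (LL F).relIndex M = 2 := by
    have := normal_LL (F := F) hodd
    have hd := Subgroup.relIndex_dvd_index_of_normal (LL F) M
    rw [index_LL (F := F) hodd] at hd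
    rcases (Nat.dvd_prime Nat.prime_two).1 hd with h | h
    · exact absurd (Subgroup.relIndex_eq_one.1 h) hnle
    · exact h
  have h := ((LL F).subgroupOf M).card_mul_index
  rw [show ((LL F).subgroupOf M).index = 2 from hr,
    Nat.card_congr (Subgroup.subgroupOfEquivOfLe (inf_le_left : M ⊓ LL F ≤ M)).symm.toEquiv,
    show (M ⊓ LL F).subgroupOf M = (LL F).subgroupOf M from Subgroup.inf_subgroupOf_left _ _] at *
  omega

/-- Nothing nontrivial in `PSL(2, F)` is normal in `PGL(2, F)`. -/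
theorem le_of_normalized (h4 : 4 ≤ Nat.card F) {N : Subgroup (ProjGenLinGroup (Fin 2) F)}
    (hN : ∀ g ∈ LL F, ∀ n ∈ N, g * n * g⁻¹ ∈ N) {x : ProjGenLinGroup (Fin 2) F}
    (hx : x ∈ N) (hxL : x ∈ LL F) (hx1 : x ≠ 1) : LL F ≤ N := by
  have := isSimple_LL (F := F) h4
  have hn : (N.subgroupOf (LL F)).Normal := ⟨fun n hn g => hN g g.2 n hn⟩
  rcases hn.eq_bot_or_eq_top with h | h
  · have : (⟨x, hxL⟩ : LL F) ∈ N.subgroupOf (LL F) := hx
    rw [h, Subgroup.mem_bot] at this
    exact absurd (congrArg Subtype.val this) hx1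
  · exact Subgroup.subgroupOf_eq_top.1 h

/-! ### The quadratic extension -/

section Ext

variable {E : Type*} [Field E] [Finite E]

/-- The data of a quadratic extension. -/
structure QuadExt (F : Type*) [Field F] (E : Type*) [Field E] where
  j : F →+* E
  card : Nat.card E = Nat.card F ^ 2
  odd : Odd (Nat.card F)

theorem QuadExt.odd' (Q : QuadExt F E) : Odd (Nat.card E) := Q.card ▸ Q.odd.pow

theorem QuadExt.sq (Q : QuadExt F E) (a : F) : IsSquare (Q.j a) :=
  isSquare_image Q.j Q.odd' (c := 1) (by rw [mul_one, Q.card]) a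

/-- The embedding. -/
noncomputable def QuadExt.iota (Q : QuadExt F E) :
    ProjGenLinGroup (Fin 2) F →* ProjectiveSpecialLinearGroup (Fin 2) E := pglMap Q.j Q.sq

theorem QuadExt.iota_injective (Q : QuadExt F E) : Function.Injective Q.iota :=
  pglMap_injective Q.j Q.sq

theorem QuadExt.toPGL_iota (Q : QuadExt F E) (x : ProjGenLinGroup (Fin 2) F) :
    ProjectiveSpecialLinearGroup.toPGL (Q.iota x) = ProjGenLinGroup.map Q.j x := by
  unfold QuadExt.iota pglMap
  exact MonoidHom.apply_ofInjective_symm ProjectiveSpecialLinearGroup.toPGL_injective _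

/-- A lift to `SL(2, E)`. -/
theorem QuadExt.exists_lift (Q : QuadExt F E) (g : GL (Fin 2) F) :
    ∃ (X : SL(2, E)) (u : Eˣ), proj X = Q.iota (ProjGenLinGroup.mk g) ∧
      (g : Matrix (Fin 2) (Fin 2) F).map Q.j = (u : E) • (X : Matrix (Fin 2) (Fin 2) E) := by
  obtain ⟨X, hX⟩ := proj_surjective (Q.iota (ProjGenLinGroup.mk g))
  have h := Q.toPGL_iota (ProjGenLinGroup.mk g)
  rw [← hX, ProjGenLinGroup.map_mk] at h
  obtain ⟨u, hu⟩ := ProjGenLinGroup.mk_eq_mk_iff.1 h
  refine ⟨X, u, hX, ?_⟩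
  have e := congrArg (fun z : GL (Fin 2) E => (z : Matrix (Fin 2) (Fin 2) E)) hu
  simp only [Units.val_mul, GeneralLinearGroup.coe_scalar] at e
  show _ = (u : E) • (X : Matrix (Fin 2) (Fin 2) E)
  ext i k
  have := congrFun (congrFun e i) k
  simp [Matrix.scalar_apply, Matrix.mul_apply, Matrix.diagonal_apply] at this
  simp only [Matrix.map_apply, Matrix.smul_apply, smul_eq_mul]
  rw [← this, mul_comm]

theorem exists_quadExt (hodd : Odd (Nat.card F)) :
    ∃ (E : Type) (_ : Field E) (_ : Fintype E), Nonempty (QuadExt F E) := by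
  obtain ⟨p, n, hp, hchar, hn, hq⟩ := exists_prime_pow F
  have := Fact.mk hp
  have hc : Nat.card (GaloisField p (2 * n)) = Nat.card F ^ 2 := by
    rw [GaloisField.card p _ (by omega), hq, ← pow_mul, mul_comm n]
  obtain ⟨f⟩ := nonempty_ringHom_of_pow_card (K := F) (F := GaloisField p (2 * n)) 2 hc.symm
  exact ⟨GaloisField p (2 * n), inferInstance, Fintype.ofFinite _, ⟨⟨f, hc, hodd⟩⟩⟩

end Ext

end CfsgLib.SL2.PGLMax
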