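import Cfsg.Agent.Lib.SL2.PGLMax.Types

/-!
The maximal subgroups of `PGL(2, F)` meet `PSL(2, F)` in maximal subgroups, outside a short list of exceptions.
-/

set_option autoImplicit false
set_option linter.unusedSectionVars false
set_option maxHeartbeats 400000

namespace CfsgLib.SL2.PGLMax

open Matrix
open scoped MatrixGroups Pointwise

theorem arith_borel_pred {q c0 c : ℕ} (hodd : Odd q) (h0 : c0 = q - 1) (hc : 2 * c = q * (q - 1))
    (hd : c0 ∣ c) (hq : 2 ≤ q) : False := by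
  obtain ⟨m, rfl⟩ := hd
  subst h0
  have h : (q - 1) * (2 * m) = (q - 1) * q := by linear_combination hc
  have := Nat.eq_of_mul_eq_mul_left (by omega) h
  obtain ⟨j, hj⟩ := hodd
  omega

theorem arith_borel_succ {q c0 c : ℕ} (h0 : c0 = q + 1) (hc : 2 * c = q * (q - 1))
    (hd : c0 ∣ c) (hq : 4 ≤ q) : False := by
  obtain ⟨m, rfl⟩ := hd
  subst h0
  obtain ⟨n, rfl⟩ : ∃ n, q = n + 2 := ⟨q - 2, by omega⟩
  rw [show n + 2 - 1 = n + 1 by omega] at hc
  have h : (n + 2 + 1) * (2 * m) = (n + 2 + 1) * n + 2 := by linear_combination hc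
  have hdd : (n + 2 + 1) ∣ 2 := (Nat.dvd_add_right (dvd_mul_right (n + 2 + 1) n)).1 (h ▸ dvd_mul_right _ _)
  have := Nat.le_of_dvd two_pos hdd
  omega

theorem arith_eight {p : ℕ} (hp : p.Prime) (hp3 : p ≠ 3) {c : ℕ} (hc : 2 * c = p * (p - 1))
    (hd : 12 ∣ c) : p % 8 = 1 := by
  obtain ⟨m, rfl⟩ := hd
  have h8 : 8 ∣ p * (p - 1) := ⟨3 * m, by linear_combination -hc⟩
  rcases hp.eq_two_or_odd with rfl | ho
  · norm_num at h8
  · have hcop : Nat.Coprime 8 p := by
      rw [show (8 : ℕ) = 2 ^ 3 from rfl]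
      exact Nat.Coprime.pow_left 3 ((Nat.coprime_primes Nat.prime_two hp).2 (by omega))
    obtain ⟨t, ht⟩ := hcop.dvd_of_dvd_mul_left h8
    omega

theorem arith_sub_borel {k q r c0 c : ℕ} (hk : 2 ≤ k) (hr : Odd r) (hq : q = k ^ r)
    (h0 : 2 * c0 = k * ((k - 1) * (k + 1))) (hc : 2 * c = q * (q - 1)) (hd : c0 ∣ c) : k ≤ 1 := by
  have h1 : k + 1 ∣ q * (q - 1) := by
    refine (dvd_trans ?_ (hc ▸ Nat.mul_dvd_mul_left 2 hd : 2 * c0 ∣ q * (q - 1)))
    rw [h0]; exact dvd_mul_of_dvd_right (dvd_mul_left _ _) _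
  have hcop : Nat.Coprime (k + 1) q := by
    rw [hq]
    exact Nat.Coprime.pow_right _ (by simp)
  have h2 := hcop.dvd_of_dvd_mul_left h1
  have h3 : k + 1 ∣ q + 1 := by
    have := hr.nat_add_dvd_pow_add_pow k 1
    rwa [one_pow, ← hq] at this
  have h4 := Nat.dvd_sub h3 h2
  have hq1 : 1 ≤ q := hq ▸ Nat.one_le_pow _ _ (by omega)
  rw [show q + 1 - (q - 1) = 2 by omega] at h4
  have := Nat.le_of_dvd two_pos h4
  omega

theorem arith_sub_sub {p i j r s c0 c : ℕ} (hp : p.Prime) (hi : 0 < i) (hj : 0 < j) (hr : r.Prime)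
    (hs : s.Prime) (hij : i * s = j * r) (hne : i ≠ j)
    (h0 : 2 * c0 = p ^ j * ((p ^ j - 1) * (p ^ j + 1)))
    (hc : c ∣ p ^ i * ((p ^ i - 1) * (p ^ i + 1))) (hd : c0 ∣ c) : p ^ j ≤ 1 := by
  set k := p ^ j with hk
  set g := Nat.gcd i j with hg
  have hgj : g ∣ j := Nat.gcd_dvd_right _ _
  have hlt : g ≠ j := by
    intro e
    obtain ⟨a, ha⟩ : j ∣ i := e ▸ Nat.gcd_dvd_left i j
    rw [ha, mul_assoc] at hij
    have h := Nat.eq_of_mul_eq_mul_left hj hij
    rcases hr.eq_one_or_self_of_dvd a ⟨s, h.symm⟩ with h1 | h1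
    · exact hne (by rw [ha, h1, mul_one])
    · rw [h1] at h
      have : s = 1 := Nat.eq_of_mul_eq_mul_left hr.pos (h.trans (mul_one r).symm)
      exact hs.one_lt.ne' this
  have h2g : 2 * g ≤ j := by
    obtain ⟨b, hb⟩ := hgj
    rcases b with _ | _ | b
    · omega
    · exact absurd (by rw [hb]; simp) hlt
    · rw [hb, Nat.mul_comm 2]; exact Nat.mul_le_mul_left _ (by omega)
  have hsq : ∀ a : ℕ, (p ^ a - 1) * (p ^ a + 1) = p ^ (2 * a) - 1 := fun a => by
    rw [two_mul, pow_add, mul_comm, ← Nat.sq_sub_sq, one_pow, pow_two]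
  have hdvd : (k - 1) * (k + 1) ∣ 2 * (p ^ (2 * i) - 1) := by
    have h1 : (k - 1) * (k + 1) ∣ 2 * c := (dvd_mul_left _ k).trans (h0 ▸ Nat.mul_dvd_mul_left 2 hd)
    have h2 := h1.trans (Nat.mul_dvd_mul_left 2 hc)
    rw [hsq i, mul_left_comm] at h2
    refine Nat.Coprime.dvd_of_dvd_mul_left ?_ h2
    refine Nat.Coprime.pow_right _ ?_
    rw [hk, hsq j, Nat.coprime_comm, hp.coprime_iff_not_dvd]
    intro h
    have h3 : p ∣ p ^ (2 * j) := dvd_pow_self _ (by omega)
    have h4 := Nat.dvd_sub h3 h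
    rw [Nat.sub_sub_self (Nat.one_le_pow _ _ hp.pos)] at h4
    exact hp.one_lt.ne' (Nat.dvd_one.1 h4)
  rw [hk, hsq j] at hdvd
  have hg2 : Nat.gcd (p ^ (2 * j) - 1) (2 * (p ^ (2 * i) - 1)) ∣ 2 * (p ^ (2 * g) - 1) := by
    refine (Nat.dvd_gcd (Nat.gcd_dvd_left _ _ |>.trans (dvd_mul_left _ 2)) (Nat.gcd_dvd_right _ _)).trans ?_
    rw [Nat.gcd_mul_left, Nat.pow_sub_one_gcd_pow_sub_one, Nat.gcd_mul_left, Nat.gcd_comm j i]
  have h5 := (Nat.dvd_gcd dvd_rfl hdvd).trans hg2
  have hg0 : 0 < g := Nat.gcd_pos_of_pos_right _ hj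
  have hpos : 0 < p ^ (2 * g) - 1 := by
    have : 1 < p ^ (2 * g) := Nat.one_lt_pow (by omega) hp.one_lt
    omega
  have h6 := Nat.le_of_dvd (by omega) h5
  have h7 : p ^ (2 * g) ≤ p ^ j := Nat.pow_le_pow_right hp.pos h2g
  have h8 : p ^ (2 * j) = k * k := by rw [two_mul, pow_add]
  have hk2 : 2 ≤ k := hp.two_le.trans (Nat.le_self_pow (by omega) p)
  have h9 : k * 2 ≤ k * k := Nat.mul_le_mul_left _ hk2
  rw [h8] at h6
  by_contra hk1
  rcases Nat.lt_or_ge k 3 with h | h
  · have : k = 2 := by omega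
    rw [this] at h6
    rw [← hk, this] at h7
    omega
  · have : k * 3 ≤ k * k := Nat.mul_le_mul_left _ h
    omega

variable {F : Type*} [Field F] [Finite F]

local notation "PSL" => ProjectiveSpecialLinearGroup (Fin 2) F

theorem comm_of_order_three {k : ℕ} (a b : DihedralGroup k) (ha : orderOf a = 3) (hb : orderOf b = 3) :
    a * b = b * a := by
  rcases a with i | i
  · rcases b with j | j
    · simp [DihedralGroup.r_mul_r, add_comm]
    · rw [DihedralGroup.orderOf_sr] at hb; omega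
  · rw [DihedralGroup.orderOf_sr] at ha; omega

theorem exists_noncomm_three : ∃ a b : Equiv.Perm (Fin 4), a ^ 3 = 1 ∧ b ^ 3 = 1 ∧ a ≠ 1 ∧ b ≠ 1 ∧
    a * b ≠ b * a := by decide +kernel

/-- The intersection with `PSL(2, F)` of a maximal subgroup not above it is maximal there. -/
theorem meet_coatom (hodd : Odd (Nat.card F)) (h4 : 4 ≤ Nat.card F) (h7 : Nat.card F ≠ 7)
    (h9 : Nat.card F ≠ 9) (h11 : Nat.card F ≠ 11)
    (h40 : (Nat.card F).Prime → Nat.card F % 40 ∉ ({11, 19, 21, 29} : Finset ℕ))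
    {M : Subgroup (ProjGenLinGroup (Fin 2) F)} (hM : IsCoatom M) (hL : ¬ LL F ≤ M) :
    IsCoatom (M.comap (ProjectiveSpecialLinearGroup.toPGL (n := Fin 2) (R := F))) := by
  set T := ProjectiveSpecialLinearGroup.toPGL (n := Fin 2) (R := F)
  set H := M.comap T
  obtain ⟨-, hMc⟩ := card_inf_LL hodd hM hL
  have hTi : Function.Injective T := ProjectiveSpecialLinearGroup.toPGL_injective
  have hH : Nat.card M = 2 * Nat.card H := by
    rw [hMc, Nat.card_congr (H.equivMapOfInjective T hTi).toEquiv, Subgroup.map_comap_eq, inf_comm]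
    rfl
  have hne : H ≠ ⊤ := fun e => hL (by
    rintro _ ⟨x, rfl⟩
    exact (e ▸ Subgroup.mem_top x : x ∈ H))
  obtain ⟨K0, hK0, hle⟩ := (eq_top_or_exists_le_coatom H).resolve_left hne
  suffices hcard : Nat.card K0 ≤ Nat.card H by
    rwa [Subgroup.eq_of_le_of_card_ge hle hcard]
  have hdvd : Nat.card H ∣ Nat.card K0 := Subgroup.card_dvd_of_le hle
  obtain ⟨p, n, hp, hchar, hn, hq⟩ := exists_prime_pow F
  have := Fact.mk hp
  obtain ⟨jq, hjq⟩ := hodd
  have hodd : Odd (Nat.card F) := ⟨jq, hjq⟩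
  have hpo : Odd p := (Nat.odd_pow_iff hn.ne').1 (hq ▸ hodd)
  have hK := coatom_odd_cases p hodd (by omega) hK0
  have hsubfield : SubfieldClause F K0 → ∃ k s : ℕ, s.Prime ∧ Nat.card F = k ^ s ∧ 2 ≤ k ∧
      Nat.card K0 ∣ k * ((k - 1) * (k + 1)) ∧ (s ≠ 2 → 2 * Nat.card K0 = k * ((k - 1) * (k + 1))) ∧
      ∀ x : K0, orderOf x ≤ k + 1 := by
    rintro (⟨K, _, _, hKq, ⟨e⟩⟩ | ⟨K, _, _, s, hs, hso, hKq, ⟨e⟩⟩)
    · rw [Fintype.card_eq_nat_card] at hKq
      refine ⟨Nat.card K, 2, Nat.prime_two, hKq, Finite.one_lt_card, ?_, fun h => absurd rfl h,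
        fun x => ?_⟩
      · rw [Nat.card_congr e.toEquiv, card_pgl]
      · rw [← e.orderOf_eq]; exact orderOf_pgl_le _
    · rw [Fintype.card_eq_nat_card] at hKq
      have hKo : Odd (Nat.card K) := (Nat.odd_pow_iff hs.pos.ne').1 (hKq ▸ hodd)
      have h2 := card_PSL (F := K)
      rw [show Nat.gcd 2 (Nat.card K - 1) = 2 from dd_of_odd hKo, ← Nat.card_congr e.toEquiv] at h2
      refine ⟨Nat.card K, s, hs, hKq, Finite.one_lt_card, ⟨2, by rw [← h2, mul_comm]⟩, fun _ => h2, fun x => ?_⟩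
      rw [← e.orderOf_eq, ← orderOf_injective _ ProjectiveSpecialLinearGroup.toPGL_injective]
      exact orderOf_pgl_le _
  rcases pgl_types hodd (by omega) hM hL with hB | ⟨t, htM, htL, ht, htc, -⟩ | ⟨hqp, h8, ⟨eS⟩⟩ |
      ⟨K, _, _, r, hr, hro, hKq, ⟨eK⟩⟩
  · -- point stabiliser
    rw [hH] at hB
    by_cases h5 : Nat.card F = 5
    · rw [h5] at hB
      rcases hK with h | ⟨h13, -⟩ | ⟨-, -, k, hk, ⟨e⟩⟩ | h | ⟨h10, -, -⟩ | ⟨-, -, -, ⟨e⟩⟩ | ⟨hqe, h81, -⟩
      · rw [h5] at h; omega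
      · omega
      · rw [Nat.card_congr e.toEquiv, DihedralGroup.nat_card, show Nat.card H = 10 by omega] at hdvd
        have := Nat.le_of_dvd (by omega) hdvd
        omega
      · obtain ⟨k, s, hs, hks, hk2, -⟩ := hsubfield h
        exfalso
        have : k * k ≤ 5 := by
          rw [← h5, hks, ← pow_two]; exact Nat.pow_le_pow_right (by omega) hs.two_le
        have : k = 2 := by
          rcases Nat.lt_or_ge k 3 with h | h
          · omega
          · have := Nat.mul_le_mul h h; omega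
        subst this
        have := h5 ▸ hks
        rcases s with _ | _ | _ | s
        · simp at this
        · simp at this
        · simp at this
        · have h8 : 2 ^ 3 ≤ 2 ^ (s + 3) := Nat.pow_le_pow_right two_pos (by omega)
          omega
      · omega
      · rw [Nat.card_congr e.toEquiv, card_alternating_four, show Nat.card H = 10 by omega] at hdvd
        omega
      · omega
    · clear hK hsubfield
      have hi := succ_le_index hK0.1 (by
        simp only [Finset.mem_insert, Finset.mem_singleton]; omega)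
      have h := card_PSL (F := F)
      rw [show Nat.gcd 2 (Nat.card F - 1) = 2 from dd_of_odd hodd, ← K0.card_mul_index] at h
      have h2 : 2 * Nat.card K0 * (Nat.card F + 1) ≤ 2 * Nat.card H * (Nat.card F + 1) := by
        rw [hB]
        calc 2 * Nat.card K0 * (Nat.card F + 1) ≤ 2 * Nat.card K0 * K0.index := Nat.mul_le_mul_left _ hi
          _ = _ := by rw [mul_assoc, h, ← mul_assoc]
      have := Nat.le_of_mul_le_mul_right h2 (by omega)
      omega
  · -- torus normalisers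
    have hHc : Nat.card H = orderOf t := by rw [hH] at htc; omega
    obtain ⟨h, hh⟩ : 2 ∣ orderOf t := by rcases ht with e | ⟨e, -⟩ <;> rw [e] <;> omega
    obtain ⟨x, hx⟩ : t ^ 2 ∈ LL F := Subgroup.sq_mem_of_index_two (index_LL hodd) t
    have hxH : x ∈ H := show T x ∈ M from hx ▸ M.pow_mem htM 2
    have hxo : orderOf (⟨x, hle hxH⟩ : K0) = h := by
      rw [Subgroup.orderOf_mk, ← orderOf_injective T hTi, hx, orderOf_pow' t two_ne_zero, hh,
        Nat.gcd_eq_right (dvd_mul_right 2 h), Nat.mul_div_cancel_left _ two_pos]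
    rcases hK with hA | ⟨h13, k, hk, ⟨e⟩⟩ | ⟨-, -, k, hk, ⟨e⟩⟩ | hC | ⟨h10, -, ⟨e⟩⟩ | ⟨hqe, -, -, ⟨e⟩⟩ |
        ⟨hqe, h81, ⟨e⟩⟩
    · exfalso
      rw [hHc] at hdvd
      rcases ht with e | ⟨e, -⟩
      · exact arith_borel_succ e hA hdvd h4
      · exact arith_borel_pred hodd e hA hdvd (by omega)
    · rw [Nat.card_congr e.toEquiv, DihedralGroup.nat_card, hk, hHc] at hdvd ⊢
      rcases ht with e' | ⟨e', -⟩ <;> rw [e'] at hdvd ⊢
      have := Nat.le_of_dvd (by omega) hdvd
      omega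
    · rw [Nat.card_congr e.toEquiv, DihedralGroup.nat_card, hk, hHc] at hdvd ⊢
      rcases ht with e' | ⟨e', -⟩ <;> rw [e'] at hdvd ⊢
      · exfalso
        obtain ⟨c, hc⟩ := hdvd
        have h2 : Nat.card F - 1 ∣ 2 := by
          refine (Nat.dvd_add_right (dvd_refl (Nat.card F - 1))).1 ⟨c, ?_⟩
          omega
        have := Nat.le_of_dvd two_pos h2
        omega
    · obtain ⟨k, s, hs, hks, hk2, -, -, hord⟩ := hsubfield hC
      have hle' := hord ⟨x, hle hxH⟩
      rw [hxo] at hle'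
      have hkk : k * k ≤ Nat.card F := by
        rw [hks, ← pow_two]; exact Nat.pow_le_pow_right (by omega) hs.two_le
      rcases Nat.lt_or_ge k 4 with hk4 | hk4
      · exfalso
        rcases ht with e' | ⟨e', -⟩ <;>
          (have hq9 : Nat.card F ≤ 9 := by omega
           have hq5 : Nat.card F = 5 := by omega
           rw [hks] at hq5
           have hk3 : k = 2 ∨ k = 3 := by omega
           have hk22 : k ^ 2 ≤ k ^ s := Nat.pow_le_pow_right (by omega) hs.two_le
           rcases hk3 with rfl | rfl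
           · rcases Nat.lt_or_ge s 3 with h' | h'
             · obtain rfl : s = 2 := by have := hs.two_le; omega
               norm_num at hq5
             · have : 2 ^ 3 ≤ 2 ^ s := Nat.pow_le_pow_right two_pos h'
               omega
           · norm_num at hk22; omega)
      · exfalso
        have : 4 * k ≤ k * k := Nat.mul_le_mul_right _ hk4
        rcases ht with e' | ⟨e', -⟩ <;> omega
    · have hle' := orderOf_le_of_mulEquiv (H := K0) e orderOf_alternating_five_le (hle hxH)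
      rw [← Subgroup.orderOf_mk x (hle hxH), hxo] at hle'
      rcases ht with e' | ⟨e', -⟩ <;> omega
    · have hle' := orderOf_le_of_mulEquiv (H := K0) e orderOf_alternating_four_le (hle hxH)
      rw [← Subgroup.orderOf_mk x (hle hxH), hxo] at hle'
      exfalso
      rcases ht with e' | ⟨e', h5'⟩
      · exact card_ne_six hle e (by omega)
      · omega
    · have hle' := orderOf_le_of_mulEquiv (H := K0) e orderOf_perm_four_le (hle hxH)
      rw [← Subgroup.orderOf_mk x (hle hxH), hxo] at hle'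
      rcases ht with e' | ⟨e', -⟩ <;> omega
  · -- S₄
    have hHc : Nat.card H = 12 := by
      rw [Nat.card_congr eS.toEquiv, card_perm_four] at hH; omega
    have hqn : n = 1 := by
      rw [hq] at hqp
      exact Nat.Prime.eq_one_of_pow hqp
    rw [hqn, pow_one] at hq
    obtain ⟨a, b, ha, hb, ha1, hb1, hab⟩ := exists_noncomm_three
    obtain ⟨xa, hxa⟩ : ((eS.symm a : M) : ProjGenLinGroup (Fin 2) F) ∈ LL F :=
      mem_LL_of_pow hodd (by decide : Odd 3) (by rw [← Subgroup.coe_pow, ← map_pow, ha, map_one, Subgroup.coe_one])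
    obtain ⟨xb, hxb⟩ : ((eS.symm b : M) : ProjGenLinGroup (Fin 2) F) ∈ LL F :=
      mem_LL_of_pow hodd (by decide : Odd 3) (by rw [← Subgroup.coe_pow, ← map_pow, hb, map_one, Subgroup.coe_one])
    have hxaH : xa ∈ H := show T xa ∈ M from hxa ▸ (eS.symm a).2
    have hxbH : xb ∈ H := show T xb ∈ M from hxb ▸ (eS.symm b).2
    have ord3 : ∀ {z : Equiv.Perm (Fin 4)} {xz : PSL}, z ^ 3 = 1 → z ≠ 1 →
        T xz = ((eS.symm z : M) : ProjGenLinGroup (Fin 2) F) → orderOf xz = 3 := by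
      intro z xz hz hz1 hx
      rw [← orderOf_injective T hTi, hx, Subgroup.orderOf_coe, MulEquiv.orderOf_eq]
      exact orderOf_eq_prime (hp := ⟨Nat.prime_three⟩) hz hz1
    have hnc : ∀ {k : ℕ}, K0 ≃* DihedralGroup k → False := by
      intro k e
      have := comm_of_order_three (e ⟨xa, hle hxaH⟩) (e ⟨xb, hle hxbH⟩)
        (by rw [e.orderOf_eq, Subgroup.orderOf_mk, ord3 ha ha1 hxa])
        (by rw [e.orderOf_eq, Subgroup.orderOf_mk, ord3 hb hb1 hxb])
      rw [← map_mul, ← map_mul] at this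
      have h2 : xa * xb = xb * xa := congrArg Subtype.val (e.injective this)
      have h3 := congrArg T h2
      rw [map_mul, map_mul, hxa, hxb, ← Subgroup.coe_mul, ← Subgroup.coe_mul, ← map_mul, ← map_mul] at h3
      exact hab (eS.symm.injective (Subtype.ext h3))
    rcases hK with hA | ⟨-, k, -, ⟨e⟩⟩ | ⟨-, -, k, -, ⟨e⟩⟩ | hC | ⟨h10, -, -⟩ | ⟨-, -, -, ⟨e⟩⟩ | ⟨-, h81, -⟩
    · exfalso
      rw [hHc] at hdvd
      have := arith_eight hp (by omega) (hq ▸ hA) hdvd
      omega
    · exact (hnc e).elim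
    · exact (hnc e).elim
    · obtain ⟨k, s, hs, hks, -⟩ := hsubfield hC
      rw [hq] at hks
      exact absurd (Nat.Prime.eq_one_of_pow (hks ▸ hp)) hs.one_lt.ne'
    · exfalso
      have := h40 hqp
      simp only [Finset.mem_insert, Finset.mem_singleton] at this
      omega
    · rw [hHc, Nat.card_congr e.toEquiv, card_alternating_four]
    · omega
  · -- subfield
    set k := Nat.card K
    have hk2 : 2 ≤ k := Finite.one_lt_card
    have hHc : 2 * Nat.card H = k * ((k - 1) * (k + 1)) := by rw [← hH, Nat.card_congr eK.toEquiv, card_pgl]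
    obtain ⟨j, hj, hkj⟩ : ∃ j, j ≤ n ∧ k = p ^ j := (Nat.dvd_prime_pow hp).1 (hq ▸ hKq ▸ dvd_pow_self _ hr.pos.ne')
    have hj0 : 0 < j := by
      rcases j with _ | j
      · rw [pow_zero] at hkj; omega
      · omega
    have hnjr : n = j * r := Nat.pow_right_injective hp.two_le (by
      show p ^ n = p ^ (j * r)
      rw [← hq, hKq, hkj, pow_mul])
    have hr3 : 3 ≤ r := by
      have := hr.two_le
      obtain ⟨a, ha⟩ := hro
      omega
    have hn3 : 3 ≤ n := hnjr ▸ hr3.trans (Nat.le_mul_of_pos_left _ hj0)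
    have hpH : p ∣ Nat.card H := by
      have h2 : Nat.Coprime p 2 := (Nat.coprime_primes hp Nat.prime_two).2 (fun e => by rw [e] at hpo; simp [Nat.odd_iff] at hpo)
      refine h2.dvd_of_dvd_mul_left ?_
      rw [hHc, hkj]
      exact dvd_mul_of_dvd_left (dvd_pow_self _ hj0.ne') _
    have hpq : p ∣ Nat.card F := hq ▸ dvd_pow_self _ hn.ne'
    have hne1 : ∀ m, n = m → m ≤ 2 → False := fun m h1 h2 => by omega
    have hexp : ∀ m, Nat.card F = p ^ m → n = m := fun m h =>
      Nat.pow_right_injective hp.two_le (hq.symm.trans h)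
    rcases hK with hA | ⟨-, a, ha, ⟨e⟩⟩ | ⟨-, -, a, ha, ⟨e⟩⟩ | hC | ⟨-, h12, -⟩ | ⟨h1, -⟩ | ⟨h1, -⟩
    · exfalso
      have := arith_sub_borel hk2 hro hKq hHc hA hdvd
      omega
    · exfalso
      have hd := hpH.trans hdvd
      rw [Nat.card_congr e.toEquiv, DihedralGroup.nat_card, ha] at hd
      have := Nat.dvd_sub hpq hd
      rw [show Nat.card F - (Nat.card F - 1) = 1 by omega] at this
      exact hp.one_lt.ne' (Nat.dvd_one.1 this)
    · exfalso
      have hd := hpH.trans hdvd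
      rw [Nat.card_congr e.toEquiv, DihedralGroup.nat_card, ha] at hd
      have := (Nat.dvd_add_right hpq).1 hd
      exact hp.one_lt.ne' (Nat.dvd_one.1 this)
    · obtain ⟨k', s, hs, hks, hk'2, hKd, hKc, -⟩ := hsubfield hC
      obtain ⟨i, -, hk'i⟩ : ∃ i, i ≤ n ∧ k' = p ^ i :=
        (Nat.dvd_prime_pow hp).1 (hq ▸ hks ▸ dvd_pow_self _ hs.pos.ne')
      have his : i * s = j * r := by
        rw [← hnjr]
        exact (hexp _ (by rw [hks, hk'i, pow_mul])).symm
      have hi0 : 0 < i := by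
        rcases i with _ | i
        · rw [pow_zero] at hk'i; omega
        · omega
      by_cases hij : i = j
      · subst hij
        have hsr : s = r := Nat.eq_of_mul_eq_mul_left hi0 his
        have h := hKc (by omega)
        rw [hk'i, ← hkj, ← hHc] at h
        omega
      · exfalso
        rw [hkj] at hHc
        rw [hk'i] at hKd
        have := arith_sub_sub hp hi0 hj0 hr hs his hij hHc hKd hdvd
        omega
    · exfalso
      rcases h12 with h | ⟨h, -⟩
      · exact hne1 1 (hexp 1 (by rw [pow_one]; exact h)) (by norm_num)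
      · exact hne1 2 (hexp 2 h) le_rfl
    · exact (hne1 1 (hexp 1 (by rw [pow_one]; exact h1)) (by norm_num)).elim
    · exact (hne1 1 (hexp 1 (by rw [pow_one]; exact h1)) (by norm_num)).elim

end CfsgLib.SL2.PGLMax
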