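import Cfsg.Agent.Lib.SL2.PGLMax.Embed

/-!
Subgroups of `PGL(2, F)` that lie over a subfield of the quadratic extension.
-/

set_option autoImplicit false
set_option linter.unusedSectionVars false
set_option maxHeartbeats 400000

namespace CfsgLib.SL2.PGLMax

open Matrix
open scoped MatrixGroups Pointwise

variable {F : Type*} [Field F] [Finite F] {E : Type*} [Field E] [Finite E]
variable {K : Type*} [Field K] [Finite K]

/-- `!![1, t; 0, 1]` -/
def upG {R : Type*} [Field R] (t : R) : GL (Fin 2) R := Matrix.SpecialLinearGroup.toGL (up t)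

/-- `!![1, 0; t, 1]` -/
def loG {R : Type*} [Field R] (t : R) : GL (Fin 2) R := Matrix.SpecialLinearGroup.toGL (lo t)

theorem upG_coe {R : Type*} [Field R] (t : R) :
    (upG t : Matrix (Fin 2) (Fin 2) R) = !![1, t; 0, 1] := up_coe t

theorem loG_coe {R : Type*} [Field R] (t : R) :
    (loG t : Matrix (Fin 2) (Fin 2) R) = !![1, 0; t, 1] := lo_coe t

theorem upG_map (f : K →+* E) (t : K) : GeneralLinearGroup.map f (upG t) = upG (f t) := by
  apply Units.ext
  show (upG t : Matrix (Fin 2) (Fin 2) K).map f = _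
  rw [upG_coe, upG_coe]
  ext i k
  fin_cases i <;> fin_cases k <;> simp

theorem loG_map (f : K →+* E) (t : K) : GeneralLinearGroup.map f (loG t) = loG (f t) := by
  apply Units.ext
  show (loG t : Matrix (Fin 2) (Fin 2) K).map f = _
  rw [loG_coe, loG_coe]
  ext i k
  fin_cases i <;> fin_cases k <;> simp

theorem upG_pow {R : Type*} [Field R] (t : R) (n : ℕ) : upG t ^ n = upG ((n : R) * t) := by
  apply Units.ext
  rw [Units.val_pow_eq_pow_val, upG_coe, upG_coe]
  induction n with
  | zero => simp [Matrix.one_fin_two]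
  | succ n ih => rw [pow_succ, ih, Matrix.mul_fin_two]; simp; ring

theorem loG_pow {R : Type*} [Field R] (t : R) (n : ℕ) : loG t ^ n = loG ((n : R) * t) := by
  apply Units.ext
  rw [Units.val_pow_eq_pow_val, loG_coe, loG_coe]
  induction n with
  | zero => simp [Matrix.one_fin_two]
  | succ n ih => rw [pow_succ, ih, Matrix.mul_fin_two]; simp; ring

theorem mk_scalar (c : Eˣ) : ProjGenLinGroup.mk (GeneralLinearGroup.scalar (Fin 2) c) = 1 :=
  ProjGenLinGroup.mk_eq_one.2 (GeneralLinearGroup.mem_center_iff_val_mem_range_scalar.2 ⟨c, rfl⟩)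

/-- A trace two matrix in the image of `PGL(2, F)` has entries in `F`. -/
theorem exists_of_mk_eq (Q : QuadExt F E) (U : GL (Fin 2) E)
    (ht : (U : Matrix (Fin 2) (Fin 2) E).trace = 2)
    {y : ProjGenLinGroup (Fin 2) F} (hy : ProjGenLinGroup.map Q.j y = ProjGenLinGroup.mk U) :
    ∃ A : Matrix (Fin 2) (Fin 2) F, A.map Q.j = (U : Matrix (Fin 2) (Fin 2) E) := by
  obtain ⟨g, rfl⟩ := ProjGenLinGroup.mk_surjective y
  rw [ProjGenLinGroup.map_mk] at hy
  obtain ⟨c, hc⟩ := ProjGenLinGroup.mk_eq_mk_iff.1 hy.symm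
  have e : (c : E) • (U : Matrix (Fin 2) (Fin 2) E) = (g : Matrix (Fin 2) (Fin 2) F).map Q.j := by
    have h : (U : Matrix (Fin 2) (Fin 2) E) * Matrix.scalar (Fin 2) (c : E) =
        (g : Matrix (Fin 2) (Fin 2) F).map Q.j :=
      congrArg (fun z : GL (Fin 2) E => (z : Matrix (Fin 2) (Fin 2) E)) hc
    rwa [Matrix.scalar_apply, ← Matrix.smul_one_eq_diagonal, mul_smul_comm, mul_one] at h
  set t := (g : Matrix (Fin 2) (Fin 2) F).trace
  have h2 : (c : E) * 2 = Q.j t := by
    rw [← ht, ← smul_eq_mul, ← Matrix.trace_smul, e]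
    simp only [t, Matrix.trace_fin_two, map_add, Matrix.map_apply]
  have h20 : (2 : E) ≠ 0 := two_ne_zero_of_odd_card Q.odd'
  have hjt : Q.j t ≠ 0 := h2 ▸ mul_ne_zero c.ne_zero h20
  refine ⟨(2 / t) • (g : Matrix (Fin 2) (Fin 2) F), ?_⟩
  ext i k
  have h := congrFun (congrFun e i) k
  simp only [Matrix.smul_apply, Matrix.map_apply, smul_eq_mul] at h ⊢
  rw [map_mul, map_div₀, map_ofNat, ← h, div_mul_eq_mul_div, div_eq_iff hjt, ← h2]
  ring

/-- A frame in which the standard unipotent elements are rational is rational up to a scalar. -/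
theorem exists_rational (Q : QuadExt F E) (D : GL (Fin 2) E)
    (h1 : ∃ y, ProjGenLinGroup.map Q.j y = ProjGenLinGroup.mk (D * upG 1 * D⁻¹))
    (h2 : ∃ y, ProjGenLinGroup.map Q.j y = ProjGenLinGroup.mk (D * loG 1 * D⁻¹)) :
    ∃ (D' : GL (Fin 2) F) (c : Eˣ),
      D = GeneralLinearGroup.map Q.j D' * GeneralLinearGroup.scalar (Fin 2) c := by
  set M := (D : Matrix (Fin 2) (Fin 2) E) with hM
  set δ := M.det with hδ
  have hδ0 : δ ≠ 0 := (GeneralLinearGroup.det D).ne_zero
  have htr : ∀ U : GL (Fin 2) E, (U : Matrix (Fin 2) (Fin 2) E).trace = 2 →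
      ((D * U * D⁻¹ : GL (Fin 2) E) : Matrix (Fin 2) (Fin 2) E).trace = 2 := fun U hU => by
    simp only [Units.val_mul]
    rw [Matrix.trace_units_conj, hU]
  obtain ⟨y1, hy1⟩ := h1
  obtain ⟨y2, hy2⟩ := h2
  obtain ⟨A, hA⟩ := exists_of_mk_eq Q _ (htr _ (by rw [upG_coe]; simp [Matrix.trace_fin_two]; norm_num)) hy1
  obtain ⟨B, hB⟩ := exists_of_mk_eq Q _ (htr _ (by rw [loG_coe]; simp [Matrix.trace_fin_two]; norm_num)) hy2
  have hinv : δ • ((D⁻¹ : GL (Fin 2) E) : Matrix (Fin 2) (Fin 2) E) = M.adjugate := by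
    have h : M * ((D⁻¹ : GL (Fin 2) E) : Matrix (Fin 2) (Fin 2) E) = 1 := D.mul_inv
    have h' := congrArg (M.adjugate * ·) h
    simp only [← mul_assoc, Matrix.adjugate_mul, mul_one, smul_mul_assoc, one_mul] at h'
    exact h'
  -- rational entries of `M * E * adj M / δ`
  let R := Q.j.fieldRange
  have hup : ∀ i k, (M * (!![0, 1; 0, 0] : Matrix (Fin 2) (Fin 2) E) * M.adjugate) i k / δ ∈ R := fun i k => ⟨(A - 1) i k, by
    have e : (A - 1).map Q.j = M * (!![0, 1; 0, 0] : Matrix (Fin 2) (Fin 2) E) * ((D⁻¹ : GL (Fin 2) E) : Matrix (Fin 2) (Fin 2) E) := by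
      rw [show (!![0, 1; 0, 0] : Matrix (Fin 2) (Fin 2) E) = (upG (1 : E) : Matrix (Fin 2) (Fin 2) E) - 1 by
        rw [upG_coe]; ext a b; fin_cases a <;> fin_cases b <;> simp, mul_sub, sub_mul, mul_one, hM,
        D.mul_inv, Matrix.map_sub Q.j (map_sub Q.j), Matrix.map_one Q.j Q.j.map_zero Q.j.map_one, hA]
      rfl
    rw [← hinv, Matrix.mul_smul, Matrix.smul_apply, smul_eq_mul, mul_div_cancel_left₀ _ hδ0, ← e]
    rfl⟩
  have hlo : ∀ i k, (M * (!![0, 0; 1, 0] : Matrix (Fin 2) (Fin 2) E) * M.adjugate) i k / δ ∈ R := fun i k => ⟨(B - 1) i k, by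
    have e : (B - 1).map Q.j = M * (!![0, 0; 1, 0] : Matrix (Fin 2) (Fin 2) E) * ((D⁻¹ : GL (Fin 2) E) : Matrix (Fin 2) (Fin 2) E) := by
      rw [show (!![0, 0; 1, 0] : Matrix (Fin 2) (Fin 2) E) = (loG (1 : E) : Matrix (Fin 2) (Fin 2) E) - 1 by
        rw [loG_coe]; ext a b; fin_cases a <;> fin_cases b <;> simp, mul_sub, sub_mul, mul_one, hM,
        D.mul_inv, Matrix.map_sub Q.j (map_sub Q.j), Matrix.map_one Q.j Q.j.map_zero Q.j.map_one, hB]
      rfl
    rw [← hinv, Matrix.mul_smul, Matrix.smul_apply, smul_eq_mul, mul_div_cancel_left₀ _ hδ0, ← e]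
    rfl⟩
  have hdg : ∀ i k, (M * (!![1, 0; 0, 0] : Matrix (Fin 2) (Fin 2) E) * M.adjugate) i k / δ ∈ R := fun i k => by
    have e : (M * (!![1, 0; 0, 0] : Matrix (Fin 2) (Fin 2) E) * M.adjugate) i k / δ =
        ∑ l, (M * (!![0, 1; 0, 0] : Matrix (Fin 2) (Fin 2) E) * M.adjugate) i l / δ * ((M * (!![0, 0; 1, 0] : Matrix (Fin 2) (Fin 2) E) * M.adjugate) l k / δ) := by
      have key : (M * (!![0, 1; 0, 0] : Matrix (Fin 2) (Fin 2) E) * M.adjugate) *
          (M * (!![0, 0; 1, 0] : Matrix (Fin 2) (Fin 2) E) * M.adjugate) =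
          δ • (M * (!![1, 0; 0, 0] : Matrix (Fin 2) (Fin 2) E) * M.adjugate) := by
        have h12 : (!![0, 1; 0, 0] : Matrix (Fin 2) (Fin 2) E) * !![0, 0; 1, 0] = !![1, 0; 0, 0] := by
          ext a b; fin_cases a <;> fin_cases b <;> simp
        simp only [mul_assoc]
        rw [← mul_assoc M.adjugate M, Matrix.adjugate_mul, smul_mul_assoc, one_mul, mul_smul_comm,
          mul_smul_comm, ← mul_assoc (!![0, 1; 0, 0] : Matrix (Fin 2) (Fin 2) E) !![0, 0; 1, 0], h12]
      have h' := congrFun (congrFun key i) k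
      rw [Matrix.mul_apply, Matrix.smul_apply, smul_eq_mul] at h'
      calc (M * (!![1, 0; 0, 0] : Matrix (Fin 2) (Fin 2) E) * M.adjugate) i k / δ
          = δ * (M * (!![1, 0; 0, 0] : Matrix (Fin 2) (Fin 2) E) * M.adjugate) i k / (δ * δ) :=
            (mul_div_mul_left _ _ hδ0).symm
        _ = _ := by
          rw [← h', Finset.sum_div]
          exact Finset.sum_congr rfl fun l _ => (div_mul_div_comm _ _ _ _).symm
    rw [e]
    exact sum_mem fun l _ => mul_mem (hup i l) (hlo l k)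
  have q1 := hup 0 1
  have q2 := hup 0 0
  have q3 := hup 1 0
  have r1 := hdg 0 0
  have r2 := hdg 0 1
  have r3 := hdg 1 0
  have r4 := hdg 1 1
  simp [Matrix.mul_apply, Fin.sum_univ_two, Matrix.adjugate_fin_two] at q1 q2 q3 r1 r2 r3 r4
  obtain ⟨c, hc0, hc⟩ : ∃ c : E, c ≠ 0 ∧ ∀ i k, M i k / c ∈ R := by
    by_cases ha : M 0 0 = 0
    · have hcc : M 1 0 ≠ 0 := fun h => hδ0 (by rw [hδ, Matrix.det_fin_two, ha, h]; ring)
      have t1 := div_mem r3 q3
      have t2 := div_mem r4 q3
      refine ⟨M 1 0, hcc, fun i k => ?_⟩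
      fin_cases i <;> fin_cases k
      · simp [ha]
      · show M 0 1 / M 1 0 ∈ R
        convert t2 using 1
        field_simp
      · simp [hcc]
      · show M 1 1 / M 1 0 ∈ R
        convert neg_mem t1 using 1
        field_simp
    · have t0 := div_mem q2 q1
      have t1 := div_mem r1 q1
      have t2 := div_mem r2 q1
      refine ⟨M 0 0, ha, fun i k => ?_⟩
      fin_cases i <;> fin_cases k
      · simp [ha]
      · show M 0 1 / M 0 0 ∈ R
        convert neg_mem t2 using 1
        field_simp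
      · show M 1 0 / M 0 0 ∈ R
        convert neg_mem t0 using 1
        field_simp
      · show M 1 1 / M 0 0 ∈ R
        convert t1 using 1
        field_simp
  choose e he using hc
  have hmap : (Matrix.of e).map Q.j = c⁻¹ • M := by
    ext i k
    simp only [Matrix.map_apply, Matrix.of_apply, he, Matrix.smul_apply, smul_eq_mul, div_eq_inv_mul]
  have hdet : (Matrix.of e).det ≠ 0 := fun h => by
    have h' : Q.j (Matrix.of e).det = 0 := by rw [h, map_zero]
    rw [Q.j.map_det, show Q.j.mapMatrix (Matrix.of e) = c⁻¹ • M from hmap, Matrix.det_smul] at h'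
    exact mul_ne_zero (pow_ne_zero _ (inv_ne_zero hc0)) hδ0 h'
  refine ⟨GeneralLinearGroup.mkOfDetNeZero _ hdet, Units.mk0 c hc0, Units.ext ?_⟩
  show M = (Matrix.of e).map Q.j * Matrix.scalar (Fin 2) c
  rw [hmap, Matrix.scalar_apply, ← Matrix.smul_one_eq_diagonal, mul_smul_comm, mul_one, smul_smul,
    mul_inv_cancel₀ hc0, one_smul]

/-- A subgroup of `PGL(2, F)` of index at most two inside `PGL(2, K)`, `K ⊆ E`, is defined over `F`. -/
theorem exists_sub_frame (Q : QuadExt F E) (p : ℕ) [Fact p.Prime] [CharP E p]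
    {M : Subgroup (ProjGenLinGroup (Fin 2) F)} (f : K →+* E) (D : GL (Fin 2) E)
    (hle : M.map Q.iota ≤ pglSub f D)
    (hcard : Nat.card (ProjGenLinGroup (Fin 2) K) ≤ 2 * Nat.card M) :
    ∃ (g : K →+* F) (D' : GL (Fin 2) F), M ≤ (subHom g D').range := by
  set N := M.map (ProjGenLinGroup.map (n := Fin 2) Q.j) with hN
  have hNle : N ≤ (subHom f D).range := by
    rintro _ ⟨y, hy, rfl⟩
    obtain ⟨z, hz⟩ := hle ⟨y, hy, rfl⟩
    exact ⟨z, hz.trans (Q.toPGL_iota y)⟩
  set S := N.comap (subHom f D) with hS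
  have hSc : Nat.card S = Nat.card M := by
    rw [Nat.card_congr (S.equivMapOfInjective _ (subHom_injective f D)).toEquiv,
      Subgroup.map_comap_eq_self hNle, hN, Subgroup.card_map_of_injective (pglMap_coe_injective Q.j)]
  have hidx : S.index ≤ 2 := by
    have h := S.card_mul_index
    rw [hSc] at h
    exact Nat.le_of_mul_le_mul_left (h.trans_le (by rw [mul_comm (Nat.card M)]; exact hcard)) Nat.card_pos
  have hpo : Odd p := by
    let _ := Fintype.ofFinite E
    obtain ⟨n, -, hn⟩ := FiniteField.card E p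
    rw [Fintype.card_eq_nat_card] at hn
    have := hn ▸ Q.odd'
    exact (Nat.odd_pow_iff n.pos.ne').1 this
  have : CharP K p := (f.charP_iff f.injective p).2 inferInstance
  have hmem : ∀ z : ProjGenLinGroup (Fin 2) K, z ^ p = 1 → z ∈ S := by
    intro z hz
    have hi : S.index = 1 ∨ S.index = 2 := by
      have := Nat.pos_of_ne_zero S.index_ne_zero_of_finite
      omega
    rcases hi with hi | hi
    · rw [Subgroup.index_eq_one.1 hi]; exact Subgroup.mem_top _
    · obtain ⟨j, rfl⟩ := hpo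
      rw [pow_succ, pow_mul] at hz
      rw [show z = ((z ^ 2) ^ j)⁻¹ from (inv_eq_of_mul_eq_one_right hz).symm]
      exact S.inv_mem (S.pow_mem (Subgroup.sq_mem_of_index_two hi z) j)
  have hup : ∀ a : K, ProjGenLinGroup.mk (upG a) ^ p = 1 := fun a => by
    rw [← map_pow, upG_pow, CharP.cast_eq_zero, zero_mul]
    exact ProjGenLinGroup.mk_eq_one.2 (by
      rw [show upG (0 : K) = 1 from Units.ext (by rw [upG_coe, Units.val_one, Matrix.one_fin_two])]
      exact one_mem _)
  have hlo : ∀ a : K, ProjGenLinGroup.mk (loG a) ^ p = 1 := fun a => by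
    rw [← map_pow, loG_pow, CharP.cast_eq_zero, zero_mul]
    exact ProjGenLinGroup.mk_eq_one.2 (by
      rw [show loG (0 : K) = 1 from Units.ext (by rw [loG_coe, Units.val_one, Matrix.one_fin_two])]
      exact one_mem _)
  have rat : ∀ z : GL (Fin 2) K, ProjGenLinGroup.mk z ∈ S →
      ∃ y, ProjGenLinGroup.map Q.j y = ProjGenLinGroup.mk (D * GeneralLinearGroup.map f z * D⁻¹) := by
    intro z hz
    obtain ⟨y, -, hy⟩ := hz
    exact ⟨y, by rw [hy, map_mul, map_mul, map_inv]; rfl⟩
  obtain ⟨D', c, hD⟩ := exists_rational Q D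
    (by have := rat _ (hmem _ (hup 1)); rwa [upG_map, map_one] at this)
    (by have := rat _ (hmem _ (hlo 1)); rwa [loG_map, map_one] at this)
  have hmkD : ProjGenLinGroup.mk D = ProjGenLinGroup.map Q.j (ProjGenLinGroup.mk D') := by
    rw [hD, map_mul, mk_scalar, mul_one, ProjGenLinGroup.map_mk]
  have hK : ∀ a : K, ∃ b : F, Q.j b = f a := by
    intro a
    obtain ⟨y, hy⟩ := rat _ (hmem _ (hup a))
    rw [upG_map, map_mul, map_mul, map_inv, hmkD] at hy
    obtain ⟨A, hA⟩ := exists_of_mk_eq Q (upG (f a))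
      (by rw [upG_coe]; simp [Matrix.trace_fin_two]; norm_num)
      (y := (ProjGenLinGroup.mk D')⁻¹ * y * ProjGenLinGroup.mk D')
      (by rw [map_mul, map_mul, map_inv, hy]; group)
    exact ⟨A 0 1, by simpa [upG_coe] using congrFun (congrFun hA 0) 1⟩
  choose g hg using hK
  let g' : K →+* F :=
    { toFun := g
      map_one' := Q.j.injective (by rw [hg, map_one, map_one])
      map_mul' := fun a b => Q.j.injective (by rw [hg, map_mul, map_mul, hg, hg])
      map_zero' := Q.j.injective (by rw [hg, map_zero, map_zero])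
      map_add' := fun a b => Q.j.injective (by rw [hg, map_add, map_add, hg, hg]) }
  refine ⟨g', D', fun y hy => ?_⟩
  obtain ⟨z, hz⟩ := hNle ⟨y, hy, rfl⟩
  obtain ⟨z, rfl⟩ := ProjGenLinGroup.mk_surjective z
  refine ⟨ProjGenLinGroup.mk z, pglMap_coe_injective Q.j ?_⟩
  rw [← hz]
  show ProjGenLinGroup.map Q.j (ProjGenLinGroup.mk D' * ProjGenLinGroup.map g' (ProjGenLinGroup.mk z) *
    (ProjGenLinGroup.mk D')⁻¹) = ProjGenLinGroup.mk D * ProjGenLinGroup.map f (ProjGenLinGroup.mk z) *
    (ProjGenLinGroup.mk D)⁻¹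
  rw [map_mul, map_mul, map_inv, ← hmkD, ProjGenLinGroup.map_mk, ProjGenLinGroup.map_mk,
    ProjGenLinGroup.map_mk]
  congr 2
  refine congrArg ProjGenLinGroup.mk (Units.ext ?_)
  ext i k
  exact hg _

theorem range_subHom_mono {L : Type*} [Field L] [Finite L] (f : K →+* F) (g : L →+* F)
    (h : Set.range f ⊆ Set.range g) (D : GL (Fin 2) F) :
    (subHom f D).range ≤ (subHom g D).range := by
  rintro x ⟨z, rfl⟩
  obtain ⟨Z, rfl⟩ := ProjGenLinGroup.mk_surjective z
  choose e he using fun a : K => h ⟨a, rfl⟩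
  have hdet : (Matrix.of fun i j => e ((Z : Matrix (Fin 2) (Fin 2) K) i j)).det ≠ 0 := by
    intro h0
    have h1 := congrArg g h0
    rw [map_zero, Matrix.det_fin_two, map_sub, map_mul, map_mul] at h1
    simp only [Matrix.of_apply, he] at h1
    rw [← map_mul, ← map_mul, ← map_sub, map_eq_zero, ← Matrix.det_fin_two] at h1
    exact (GeneralLinearGroup.det Z).ne_zero h1
  refine ⟨ProjGenLinGroup.mk (GeneralLinearGroup.mkOfDetNeZero _ hdet), ?_⟩
  show ProjGenLinGroup.mk D * ProjGenLinGroup.mk _ * (ProjGenLinGroup.mk D)⁻¹ =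
    ProjGenLinGroup.mk D * ProjGenLinGroup.mk _ * (ProjGenLinGroup.mk D)⁻¹
  rw [mul_left_inj, mul_right_inj]
  exact congrArg _ (Units.ext (Matrix.ext fun i j => he _))

/-- A maximal subgroup over a proper subfield. -/
theorem coatom_sub (hodd : Odd (Nat.card F)) {M : Subgroup (ProjGenLinGroup (Fin 2) F)}
    (hM : IsCoatom M) (hnle : ¬ M ≤ LL F) (g : K →+* F) (D : GL (Fin 2) F)
    (hle : M ≤ (subHom g D).range) (hk : Nat.card K ≠ Nat.card F) :
    M = (subHom g D).range ∧ Nonempty (M ≃* ProjGenLinGroup (Fin 2) K) ∧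
      ∃ r : ℕ, r.Prime ∧ Odd r ∧ Nat.card F = Nat.card K ^ r := by
  let _ := g.toAlgebra
  set r := Module.finrank K F with hrdef
  have hq : Nat.card F = Nat.card K ^ r := Module.natCard_eq_pow_finrank (K := K) (V := F)
  have h1F : 1 < Nat.card F := Finite.one_lt_card
  have hk2 : 2 ≤ Nat.card K := Finite.one_lt_card
  have hr : 2 ≤ r := by
    rcases (show r = 0 ∨ r = 1 ∨ 2 ≤ r by omega) with h | h | h
    · rw [h, pow_zero] at hq; omega
    · rw [h, pow_one] at hq; exact absurd hq.symm hk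
    · exact h
  have hcr : ∀ {L : Type} [Field L] [Finite L] (h : L →+* F) (m : ℕ), 2 ≤ m → Nat.card L ^ m = Nat.card F →
      (subHom h D).range ≠ ⊤ := by
    intro L _ _ h m hm hL e
    have hc := Nat.card_congr (MonoidHom.ofInjective (subHom_injective h D)).toEquiv
    rw [e, Subgroup.card_top, card_pgl, card_pgl] at hc
    have hl : 2 ≤ Nat.card L := Finite.one_lt_card
    have hlt : Nat.card L < Nat.card F := by
      calc Nat.card L = Nat.card L ^ 1 := (pow_one _).symm
        _ < Nat.card L ^ m := Nat.pow_lt_pow_right hl hm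
        _ = _ := hL
    have : Nat.card L * ((Nat.card L - 1) * (Nat.card L + 1)) <
        Nat.card F * ((Nat.card F - 1) * (Nat.card F + 1)) :=
      Nat.mul_lt_mul_of_lt_of_le hlt (Nat.mul_le_mul (by omega) (by omega))
        (Nat.mul_pos (by omega) (by omega))
    omega
  have hne : (subHom g D).range ≠ ⊤ := by
    intro e
    have hc := Nat.card_congr (MonoidHom.ofInjective (subHom_injective g D)).toEquiv
    rw [e, Subgroup.card_top, card_pgl, card_pgl] at hc
    have hlt : Nat.card K < Nat.card F := by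
      calc Nat.card K = Nat.card K ^ 1 := (pow_one _).symm
        _ < Nat.card K ^ r := Nat.pow_lt_pow_right hk2 hr
        _ = _ := hq.symm
    have : Nat.card K * ((Nat.card K - 1) * (Nat.card K + 1)) <
        Nat.card F * ((Nat.card F - 1) * (Nat.card F + 1)) :=
      Nat.mul_lt_mul_of_lt_of_le hlt (Nat.mul_le_mul (by omega) (by omega))
        (Nat.mul_pos (by omega) (by omega))
    omega
  have hMeq : M = (subHom g D).range := by
    rcases hM.le_iff.1 hle with e | e
    · exact absurd e hne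
    · exact e.symm
  have hrodd : Odd r := by
    rcases Nat.even_or_odd r with ⟨c, hc⟩ | h
    · exfalso
      apply hnle
      rw [hMeq]
      rintro _ ⟨z, rfl⟩
      obtain ⟨Z, rfl⟩ := ProjGenLinGroup.mk_surjective z
      have hw := map_mem_range_toPGL g (isSquare_image g hodd (c := c) (by rw [two_mul, ← hc, ← hq])) Z
      exact (normal_LL hodd).conj_mem _ hw (ProjGenLinGroup.mk D)
    · exact h
  refine ⟨hMeq, ⟨(MulEquiv.subgroupCongr hMeq).trans (MonoidHom.ofInjective (subHom_injective g D)).symm⟩,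
    r, ?_, hrodd, hq⟩
  by_contra hnp
  obtain ⟨a, har, ha2, halt⟩ := (Nat.not_prime_iff_exists_dvd_lt hr).1 hnp
  obtain ⟨b, hb⟩ := har
  have hb2 : 2 ≤ b := by rcases b with _ | _ | b <;> omega
  obtain ⟨p, n, hp, hchar, hn, hKp⟩ := exists_prime_pow K
  have := Fact.mk hp
  have hL : Nat.card (GaloisField p (n * a)) = Nat.card K ^ a := by
    rw [GaloisField.card p _ (Nat.mul_pos hn (by omega)).ne', hKp, ← pow_mul]
  obtain ⟨g1⟩ := nonempty_ringHom_of_pow_card (K := GaloisField p (n * a)) (F := F) b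
    (by rw [hL, ← pow_mul, ← hb, hq])
  have hsub : Set.range g ⊆ Set.range g1 := by
    rw [range_eq_fixed g, range_eq_fixed g1, hL]
    intro y (hy : y ^ Nat.card K = y)
    show y ^ (Nat.card K ^ a) = y
    clear hb halt ha2 hL g1
    induction a with
    | zero => simp
    | succ i ih => rw [pow_succ, pow_mul, ih, hy]
  rcases hM.le_iff.1 (hle.trans (range_subHom_mono g g1 hsub D)) with e | e
  · exact hcr g1 b hb2 (by rw [hL, ← pow_mul, ← hb, hq]) e
  · have hc : Nat.card (subHom g D).range = Nat.card (subHom g1 D).range := by rw [e, hMeq]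
    rw [← Nat.card_congr (MonoidHom.ofInjective (subHom_injective g D)).toEquiv,
      ← Nat.card_congr (MonoidHom.ofInjective (subHom_injective g1 D)).toEquiv, card_pgl, card_pgl, hL] at hc
    have hlt : Nat.card K < Nat.card K ^ a := by
      calc Nat.card K = Nat.card K ^ 1 := (pow_one _).symm
        _ < _ := Nat.pow_lt_pow_right hk2 ha2
    have : Nat.card K * ((Nat.card K - 1) * (Nat.card K + 1)) <
        Nat.card K ^ a * ((Nat.card K ^ a - 1) * (Nat.card K ^ a + 1)) :=
      Nat.mul_lt_mul_of_lt_of_le hlt (Nat.mul_le_mul (by omega) (by omega))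
        (Nat.mul_pos (by omega) (by omega))
    omega

end CfsgLib.SL2.PGLMax
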