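import Cfsg.Agent.Lib.SL2.PGLMax.Embed

/-!
Tori of `PGL(2, F)` and their normalisers.
-/

set_option autoImplicit false
set_option linter.unusedSectionVars false
set_option maxHeartbeats 400000

namespace CfsgLib.SL2.PGLMax

open Matrix
open scoped MatrixGroups Pointwise

variable {F : Type*} [Field F] [Finite F] {E : Type*} [Field E] [Finite E]
  (p : ℕ) [Fact p.Prime] [CharP E p]

/-- A torus of `PGL(2, F)`. -/
noncomputable def pT (Q : QuadExt F E) (x : ProjGenLinGroup (Fin 2) F) :
    Subgroup (ProjGenLinGroup (Fin 2) F) :=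
  (torus (Q.iota x)).comap Q.iota

/-- The normaliser of a torus. -/
noncomputable def pN (Q : QuadExt F E) (x : ProjGenLinGroup (Fin 2) F) :
    Subgroup (ProjGenLinGroup (Fin 2) F) :=
  (Subgroup.normalizer (torus (Q.iota x) : Set (ProjectiveSpecialLinearGroup (Fin 2) E))).comap Q.iota

variable {p}

theorem pT_le_pN (Q : QuadExt F E) (x : ProjGenLinGroup (Fin 2) F) : pT Q x ≤ pN Q x :=
  Subgroup.comap_mono Subgroup.le_normalizer

theorem mem_pN_of_conj (Q : QuadExt F E) {x y : ProjGenLinGroup (Fin 2) F}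
    (hx : Census.Semi p (Q.iota x)) (h : y * x * y⁻¹ ∈ pT Q x) : y ∈ pN Q x := by
  show Q.iota y ∈ Subgroup.normalizer _
  rw [CA.mem_normalizer_iff_forall]
  intro t ht
  have h' : Q.iota y * Q.iota x * (Q.iota y)⁻¹ ∈ torus (Q.iota x) := by
    have : Q.iota (y * x * y⁻¹) ∈ torus (Q.iota x) := h
    rwa [map_mul, map_mul, map_inv] at this
  rw [← torus_eq_of_mem p hx h' fun e => hx.1 (conj_eq_one_iff.1 e)]
  exact mem_torus_conj (Q.iota y) ht

theorem self_mem_pT (Q : QuadExt F E) (x : ProjGenLinGroup (Fin 2) F) : x ∈ pT Q x :=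
  mem_torus (Q.iota x)

theorem isCyclic_pT (Q : QuadExt F E) {x : ProjGenLinGroup (Fin 2) F}
    (hx : Census.Semi p (Q.iota x)) : IsCyclic (pT Q x) := by
  have := isCyclic_torus p hx
  let f : pT Q x →* torus (Q.iota x) := (Q.iota.comp (pT Q x).subtype).codRestrict _ fun y => y.2
  exact isCyclic_of_injective f fun a b h =>
    Subtype.ext (Q.iota_injective (congrArg (fun z : torus (Q.iota x) => (z : ProjectiveSpecialLinearGroup (Fin 2) E)) h))

theorem mul_self_pN (Q : QuadExt F E) {x y : ProjGenLinGroup (Fin 2) F}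
    (hx : Census.Semi p (Q.iota x)) (hy : y ∈ pN Q x) (hy' : y ∉ pT Q x) : y * y = 1 :=
  Q.iota_injective (by rw [map_mul, map_one]; exact mul_self_of_normalizer_torus p hx hy hy')

theorem mul_mem_pT (Q : QuadExt F E) {x a b : ProjGenLinGroup (Fin 2) F}
    (hx : Census.Semi p (Q.iota x)) (ha : a ∈ pN Q x) (ha' : a ∉ pT Q x) (hb : b ∈ pN Q x)
    (hb' : b ∉ pT Q x) : a * b ∈ pT Q x := by
  set N := Subgroup.normalizer (torus (Q.iota x) : Set (ProjectiveSpecialLinearGroup (Fin 2) E))
  have hle : torus (Q.iota x) ≤ N := Subgroup.le_normalizer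
  have hi : ((torus (Q.iota x)).subgroupOf N).index = 2 := by
    have h := ((torus (Q.iota x)).subgroupOf N).card_mul_index
    rw [card_normalizer_torus p hx, Nat.card_congr (Subgroup.subgroupOfEquivOfLe hle).toEquiv,
      mul_comm 2] at h
    exact Nat.eq_of_mul_eq_mul_left Nat.card_pos h
  have h := (Subgroup.mul_mem_iff_of_index_two hi (a := ⟨Q.iota a, ha⟩) (b := ⟨Q.iota b, hb⟩)).2
    (iff_of_false (fun h => ha' h) (fun h => hb' h))
  show Q.iota (a * b) ∈ torus (Q.iota x)
  rw [map_mul]
  exact h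

theorem index_pT (Q : QuadExt F E) {x w : ProjGenLinGroup (Fin 2) F}
    (hx : Census.Semi p (Q.iota x)) (hw : w ∈ pN Q x) (hw' : w ∉ pT Q x) :
    ((pT Q x).subgroupOf (pN Q x)).index = 2 := by
  refine Subgroup.index_eq_two_iff.2 ⟨⟨w, hw⟩, fun b => ?_⟩
  by_cases hb : (b : ProjGenLinGroup (Fin 2) F) ∈ pT Q x
  · refine Or.inr ⟨hb, fun h => hw' ?_⟩
    have := (pT Q x).mul_mem ((pT Q x).inv_mem hb) (Subgroup.mem_subgroupOf.1 h)
    simpa using this
  · exact Or.inl ⟨mul_mem_pT Q hx b.2 hb hw hw', fun h => hb h⟩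

/-- Elements of the torus of `g` are the classes of the matrices commuting with `g`. -/
theorem mk_mem_pT_iff (Q : QuadExt F E) (g h : GL (Fin 2) F)
    (hx : Census.Semi p (Q.iota (ProjGenLinGroup.mk g))) :
    ProjGenLinGroup.mk h ∈ pT Q (ProjGenLinGroup.mk g) ↔
      (h : Matrix (Fin 2) (Fin 2) F) * g = (g : Matrix (Fin 2) (Fin 2) F) * h := by
  obtain ⟨X, u, hX, hu⟩ := Q.exists_lift g
  obtain ⟨Y, v, hY, hv⟩ := Q.exists_lift h
  have key : (h : Matrix (Fin 2) (Fin 2) F) * g = (g : Matrix (Fin 2) (Fin 2) F) * h ↔ X * Y = Y * X := by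
    constructor
    · intro e
      have e' := congrArg (fun z : Matrix (Fin 2) (Fin 2) F => z.map Q.j) e
      simp only [Matrix.map_mul, hu, hv, smul_mul_smul_comm, mul_comm (v : E)] at e'
      have := smul_right_injective (Matrix (Fin 2) (Fin 2) E) (mul_ne_zero u.ne_zero v.ne_zero) e'
      exact Subtype.ext (by rw [Matrix.SpecialLinearGroup.coe_mul, Matrix.SpecialLinearGroup.coe_mul]; exact this.symm)
    · intro e
      have e' := congrArg Subtype.val e
      rw [Matrix.SpecialLinearGroup.coe_mul, Matrix.SpecialLinearGroup.coe_mul] at e'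
      apply Matrix.map_injective Q.j.injective
      simp only [Matrix.map_mul, hu, hv, smul_mul_smul_comm, mul_comm (v : E), e']
  rw [key, ← mem_cent_iff]
  show Q.iota _ ∈ torus (Q.iota (ProjGenLinGroup.mk g)) ↔ _
  rw [torus_eq hX, ← hY, ← Subgroup.mem_comap, Subgroup.comap_map_eq, QuotientGroup.ker_mk',
    sup_eq_left.2 (center_le_cent X)]

/-- Facts on the matrix of a semisimple element. -/
theorem semi_matrix (Q : QuadExt F E) (g : GL (Fin 2) F)
    (hx : Census.Semi p (Q.iota (ProjGenLinGroup.mk g))) :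
    NonScalar (g : Matrix (Fin 2) (Fin 2) F) ∧
      (g : Matrix (Fin 2) (Fin 2) F).trace * (g : Matrix (Fin 2) (Fin 2) F).trace ≠
        4 * (g : Matrix (Fin 2) (Fin 2) F).det := by
  obtain ⟨X, u, hX, hu⟩ := Q.exists_lift g
  have hreg := regular_of_semi p hX hx
  have h : (g : Matrix (Fin 2) (Fin 2) F).trace * (g : Matrix (Fin 2) (Fin 2) F).trace ≠
      4 * (g : Matrix (Fin 2) (Fin 2) F).det := by
    intro e
    apply hreg
    have e' := congrArg Q.j e
    have ht : Q.j (g : Matrix (Fin 2) (Fin 2) F).trace = (u : E) * (X : Matrix (Fin 2) (Fin 2) E).trace := by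
      rw [← smul_eq_mul, ← Matrix.trace_smul, ← hu, Matrix.trace_fin_two, Matrix.trace_fin_two, map_add]
      rfl
    have hdt : Q.j (g : Matrix (Fin 2) (Fin 2) F).det = (u : E) ^ 2 := by
      rw [Q.j.map_det, show Q.j.mapMatrix (g : Matrix (Fin 2) (Fin 2) F) = (u : E) • (X : Matrix (Fin 2) (Fin 2) E) from hu,
        Matrix.det_smul, X.det_coe, Fintype.card_fin, mul_one]
    rw [map_mul, map_mul, map_ofNat, ht, hdt] at e'
    have hu0 : (u : E) * u ≠ 0 := mul_ne_zero u.ne_zero u.ne_zero
    exact mul_left_cancel₀ hu0 (by linear_combination e')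
  refine ⟨?_, h⟩
  rw [nonScalar_iff]
  by_contra hn
  simp only [not_or, not_not] at hn
  apply h
  rw [Matrix.trace_fin_two, Matrix.det_fin_two, hn.1, hn.2.2]
  ring

theorem card_pT (Q : QuadExt F E) {x : ProjGenLinGroup (Fin 2) F} (hx : Census.Semi p (Q.iota x)) :
    (Nat.card (pT Q x) = Nat.card F + 1 ∨ Nat.card (pT Q x) = Nat.card F - 1) ∧
      ∃ w ∈ pN Q x, w ∉ pT Q x := by
  obtain ⟨g, rfl⟩ := ProjGenLinGroup.mk_surjective x
  obtain ⟨hns, hd⟩ := semi_matrix Q g hx
  set A := (g : Matrix (Fin 2) (Fin 2) F) with hA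
  have hns' := (nonScalar_iff _).1 hns
  have hscal : ∀ a : F, A ≠ a • (1 : Matrix (Fin 2) (Fin 2) F) := by
    intro a e
    rcases hns' with h | h | h <;> apply h <;> simp [e]
  constructor
  · set R := {a : F | (A + a • 1).det = 0} with hR
    have hroot : ∀ a, a ∈ R ↔ a * a + A.trace * a + A.det = 0 := by
      intro a
      simp only [hR, Set.mem_ofPred_eq, Matrix.det_fin_two, Matrix.trace_fin_two]
      simp
      constructor <;> intro e <;> linear_combination e
    have hRc : R.ncard = 0 ∨ R.ncard = 2 := by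
      rcases R.eq_empty_or_nonempty with h | ⟨r, hr⟩
      · exact Or.inl (by rw [h, Set.ncard_empty])
      · right
        rw [Set.ncard_eq_two]
        rw [hroot] at hr
        refine ⟨r, -A.trace - r, fun e => hd ?_, ?_⟩
        · linear_combination -4 * hr + (2 * r + A.trace) * e
        · ext a
          rw [hroot, Set.mem_insert_iff, Set.mem_singleton_iff]
          constructor
          · intro ha
            rcases mul_eq_zero.1 (show (a - r) * (a - (-A.trace - r)) = 0 by linear_combination ha - hr) with h | h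
            · exact Or.inl (sub_eq_zero.1 h)
            · exact Or.inr (sub_eq_zero.1 h)
          · rintro (rfl | rfl)
            · exact hr
            · linear_combination hr
    let φ : Option ↥(Rᶜ : Set F) → ↥(pT Q (ProjGenLinGroup.mk g)) := fun o =>
      o.elim 1 fun a => ⟨ProjGenLinGroup.mk (GeneralLinearGroup.mkOfDetNeZero (A + (a : F) • 1) a.2),
        (mk_mem_pT_iff Q g _ hx).2 (by
          show (A + (a : F) • 1) * A = A * (A + (a : F) • 1)
          rw [add_mul, mul_add, smul_mul_assoc, one_mul, mul_smul_comm, mul_one])⟩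
    have hφ : Function.Bijective φ := by
      constructor
      · have hsome : ∀ a : ↥(Rᶜ : Set F), φ (some a) ≠ 1 := by
          intro a e
          have e' := congrArg Subtype.val e
          simp only [φ, Option.elim_some, OneMemClass.coe_one, ProjGenLinGroup.mk_eq_one,
            GeneralLinearGroup.mem_center_iff_val_mem_range_scalar] at e'
          obtain ⟨c, hc⟩ := e'
          apply hscal (c - a)
          have hc' : A + (a : F) • 1 = c • (1 : Matrix (Fin 2) (Fin 2) F) := by
            rw [Matrix.smul_one_eq_diagonal c]; exact hc.symm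
          rw [sub_smul, ← hc', add_sub_cancel_right]
        rintro (_ | a) (_ | b) e
        · rfl
        · exact absurd e.symm (hsome b)
        · exact absurd e (hsome a)
        · have e' := congrArg Subtype.val e
          simp only [φ, Option.elim_some] at e'
          obtain ⟨c, hc⟩ := ProjGenLinGroup.mk_eq_mk_iff.1 e'
          have hc' : (A + (a : F) • 1) * Matrix.scalar (Fin 2) (c : F) = A + (b : F) • 1 :=
            congrArg (fun z : GL (Fin 2) F => (z : Matrix (Fin 2) (Fin 2) F)) hc
          rw [Matrix.scalar_apply, ← Matrix.smul_one_eq_diagonal, mul_smul_comm, mul_one] at hc'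
          have hc1 : (c : F) = 1 := by
            by_contra hc1
            apply hscal (((c : F) - 1)⁻¹ * ((b : F) - c * a))
            rw [← smul_smul, show ((b : F) - c * a) • (1 : Matrix (Fin 2) (Fin 2) F) = ((c : F) - 1) • A by
              rw [sub_smul, sub_smul, one_smul, ← smul_smul]
              rw [smul_add] at hc'
              rw [eq_sub_iff_add_eq, sub_add_eq_add_sub, sub_eq_iff_eq_add, hc']
              abel, smul_smul, inv_mul_cancel₀ (sub_ne_zero.2 hc1), one_smul]
          rw [hc1, one_smul, add_right_inj] at hc'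
          have := congrFun (congrFun hc' 0) 0
          simp at this
          exact congrArg some (Subtype.ext this)
      · rintro ⟨y, hy⟩
        obtain ⟨h, rfl⟩ := ProjGenLinGroup.mk_surjective y
        obtain ⟨a, b, hab⟩ := exists_eq_of_commute hns ((mk_mem_pT_iff Q g h hx).1 hy)
        by_cases hb : b = 0
        · refine ⟨none, Subtype.ext (ProjGenLinGroup.mk_eq_one.2
            (GeneralLinearGroup.mem_center_iff_val_mem_range_scalar.2 ⟨a, ?_⟩)).symm⟩
          rw [hab, hb, zero_smul, add_zero, Matrix.smul_one_eq_diagonal]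
          rfl
        · have e1 : (h : Matrix (Fin 2) (Fin 2) F) = b • (A + (b⁻¹ * a) • 1) := by
            rw [smul_add, smul_smul, ← mul_assoc, mul_inv_cancel₀ hb, one_mul, hab, add_comm]
          have hdet : (A + (b⁻¹ * a) • 1).det ≠ 0 := fun e => by
            have h1 := congrArg Matrix.det e1
            rw [Matrix.det_smul, e, mul_zero] at h1
            exact (GeneralLinearGroup.det h).ne_zero h1
          refine ⟨some ⟨b⁻¹ * a, hdet⟩, Subtype.ext ?_⟩
          refine ProjGenLinGroup.mk_eq_mk_iff.2 ⟨Units.mk0 b hb, Units.ext ?_⟩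
          show (A + (b⁻¹ * a) • 1) * Matrix.scalar (Fin 2) b = _
          rw [Matrix.scalar_apply, ← Matrix.smul_one_eq_diagonal, mul_smul_comm, mul_one]
          exact e1.symm
    have hc := Nat.card_eq_of_bijective φ hφ
    rw [Finite.card_option, Nat.card_coe_set_eq, Set.ncard_compl] at hc
    have : 1 < Nat.card F := Finite.one_lt_card
    omega
  · -- an element inverting the torus
    obtain ⟨J, hJd, hJ⟩ : ∃ J : Matrix (Fin 2) (Fin 2) F, J.det ≠ 0 ∧ J * A = (A.trace • 1 - A) * J := by
      by_cases h01 : A 0 1 = 0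
      · by_cases h10 : A 1 0 = 0
        · refine ⟨!![0, 1; 1, 0], by simp [Matrix.det_fin_two], ?_⟩
          ext i k
          fin_cases i <;> fin_cases k <;> simp [Matrix.mul_apply, Matrix.trace_fin_two, h01, h10]
        · refine ⟨!![A 1 0, -(A 0 0 - A 1 1); 0, -(A 1 0)], by simp [Matrix.det_fin_two, h10], ?_⟩
          ext i k
          fin_cases i <;> fin_cases k <;>
            simp [Matrix.mul_apply, Matrix.trace_fin_two, h01] <;> ring
      · refine ⟨!![A 0 1, 0; -(A 0 0 - A 1 1), -(A 0 1)], by simp [Matrix.det_fin_two, h01], ?_⟩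
        ext i k
        fin_cases i <;> fin_cases k <;>
          simp [Matrix.mul_apply, Matrix.trace_fin_two] <;> ring
    set w := GeneralLinearGroup.mkOfDetNeZero J hJd
    refine ⟨ProjGenLinGroup.mk w, mem_pN_of_conj Q hx ?_, fun hw => ?_⟩
    · rw [← map_mul, ← map_inv, ← map_mul]
      refine (mk_mem_pT_iff Q g _ hx).2 ?_
      have e1 : ((w * g * w⁻¹ : GL (Fin 2) F) : Matrix (Fin 2) (Fin 2) F) = A.trace • 1 - A := by
        show J * A * ((w⁻¹ : GL (Fin 2) F) : Matrix (Fin 2) (Fin 2) F) = _
        rw [hJ, mul_assoc, show J * ((w⁻¹ : GL (Fin 2) F) : Matrix (Fin 2) (Fin 2) F) = 1 from w.mul_inv, mul_one]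
      rw [e1]
      show (A.trace • 1 - A) * A = A * (A.trace • 1 - A)
      rw [sub_mul, mul_sub, smul_mul_assoc, one_mul, mul_smul_comm, mul_one]
    · have e : J * A = A * J := (mk_mem_pT_iff Q g w hx).1 hw
      have e2 : (A.trace • 1 - A) * J = A * J := hJ.symm.trans e
      have e3 := congrArg (· * ((w⁻¹ : GL (Fin 2) F) : Matrix (Fin 2) (Fin 2) F)) e2
      simp only [mul_assoc, show J * ((w⁻¹ : GL (Fin 2) F) : Matrix (Fin 2) (Fin 2) F) = 1 from w.mul_inv,
        mul_one] at e3
      have h2 := two_ne_zero_of_odd_card (F := F) Q.odd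
      apply hscal (A.trace / 2)
      ext i k
      have := congrFun (congrFun e3 i) k
      simp only [Matrix.sub_apply, Matrix.smul_apply, smul_eq_mul] at this ⊢
      field_simp
      linear_combination -this

theorem pN_facts (Q : QuadExt F E) {x : ProjGenLinGroup (Fin 2) F} (hx : Census.Semi p (Q.iota x)) :
    Nat.card (pN Q x) = 2 * Nat.card (pT Q x) ∧
      Nonempty (pN Q x ≃* DihedralGroup (Nat.card (pT Q x))) := by
  obtain ⟨-, w, hw, hw'⟩ := card_pT Q hx
  have hi := index_pT Q hx hw hw'
  have hc : Nat.card ((pT Q x).subgroupOf (pN Q x)) = Nat.card (pT Q x) :=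
    Nat.card_congr (Subgroup.subgroupOfEquivOfLe (pT_le_pN Q x)).toEquiv
  constructor
  · rw [← ((pT Q x).subgroupOf (pN Q x)).card_mul_index, hi, hc, mul_comm]
  · rw [← hc]
    have := isCyclic_pT Q hx
    exact Census.nonempty_dihedral ((Subgroup.subgroupOfEquivOfLe (pT_le_pN Q x)).isCyclic.2 this) hi
      fun h hh => Subtype.ext (mul_self_pN Q hx h.2 hh)

theorem pN_ne_top (Q : QuadExt F E) {x : ProjGenLinGroup (Fin 2) F} (hx : Census.Semi p (Q.iota x)) :
    pN Q x ≠ ⊤ := by
  intro e
  have h := (pN_facts Q hx).1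
  rw [e, Subgroup.card_top, card_pgl] at h
  obtain ⟨k, hk⟩ := Q.odd
  have h1 : 1 < Nat.card F := Finite.one_lt_card
  have := (card_pT Q hx).1
  have h3 : 3 * (2 * (Nat.card F + 1)) ≤ Nat.card F * ((Nat.card F - 1) * (Nat.card F + 1)) :=
    Nat.mul_le_mul (by omega) (Nat.mul_le_mul_right _ (by omega))
  omega

end CfsgLib.SL2.PGLMax
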