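import Cfsg.Agent.Lib.SL2.PGLMax.TorusNorm
import Cfsg.Agent.Lib.SL2.PGLMax.SubfieldCase
import Cfsg.Agent.S0266

/-!
The maximal subgroups of `PGL(2, F)`, `|F|` odd, that do not contain `PSL(2, F)`.
-/

set_option autoImplicit false
set_option linter.unusedSectionVars false
set_option maxHeartbeats 400000

namespace CfsgLib.SL2.PGLMax

open Matrix
open scoped MatrixGroups Pointwise

variable {F : Type*} [Field F] [Finite F] {E : Type*} [Field E] [Finite E]

theorem false_of_simple_index_two {G : Type*} [Group G] [Finite G] [IsSimpleGroup G] (N : Subgroup G)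
    (h : N.index = 2) (h2 : 2 < Nat.card G) : False := by
  rcases (Subgroup.normal_of_index_eq_two h).eq_bot_or_eq_top with e | e
  · rw [e, Subgroup.index_bot] at h; omega
  · rw [e, Subgroup.index_top] at h; omega

theorem le_LL_of_five (hodd : Odd (Nat.card F)) {M : Subgroup (ProjGenLinGroup (Fin 2) F)}
    (hM : IsCoatom M) (hL : ¬ LL F ≤ M) (e : M ≃* alternatingGroup (Fin 5)) : False := by
  obtain ⟨-, hc⟩ := card_inf_LL hodd hM hL
  have := alternatingGroup.isSimpleGroup_five
  have h60 : Nat.card M = 60 := by rw [Nat.card_congr e.toEquiv, card_alternating_five]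
  set N := ((LL F).subgroupOf M).map e.toMonoidHom
  have hN : Nat.card N = Nat.card (M ⊓ LL F : Subgroup _) := by
    rw [Subgroup.card_map_of_injective e.injective, ← Subgroup.inf_subgroupOf_left (LL F) M,
      Nat.card_congr (Subgroup.subgroupOfEquivOfLe inf_le_left).toEquiv]
  refine false_of_simple_index_two N ?_ (by rw [card_alternating_five]; norm_num)
  have h := N.card_mul_index
  rw [hN, card_alternating_five, ← h60, hc, mul_comm 2] at h
  exact Nat.eq_of_mul_eq_mul_left Nat.card_pos h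

theorem le_LL_of_four (hodd : Odd (Nat.card F)) {M : Subgroup (ProjGenLinGroup (Fin 2) F)}
    (e : M ≃* alternatingGroup (Fin 4)) : M ≤ LL F := by
  intro y hy
  have key : ∀ x : alternatingGroup (Fin 4), ∃ a b : alternatingGroup (Fin 4),
      a ^ 3 = 1 ∧ b ^ 3 = 1 ∧ x = a * b := by decide +kernel
  obtain ⟨a, b, ha, hb, hab⟩ := key (e ⟨y, hy⟩)
  have hmem : ∀ c : alternatingGroup (Fin 4), c ^ 3 = 1 → ((e.symm c : M) : ProjGenLinGroup (Fin 2) F) ∈ LL F :=
    fun c hc => mem_LL_of_pow hodd (by decide : Odd 3)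
      (by rw [← Subgroup.coe_pow, ← map_pow, hc, map_one, Subgroup.coe_one])
  have e1 : (⟨y, hy⟩ : M) = e.symm a * e.symm b := by
    rw [← map_mul, ← hab, MulEquiv.symm_apply_apply]
  rw [show y = ((e.symm a * e.symm b : M) : ProjGenLinGroup (Fin 2) F) from congrArg Subtype.val e1,
    Subgroup.coe_mul]
  exact (LL F).mul_mem (hmem a ha) (hmem b hb)

theorem card_proj_line : Nat.card (Projectivization F (Fin 2 → F)) = Nat.card F + 1 :=
  Projectivization.card_of_finrank_two F _ (Module.finrank_fin_fun F)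

/-- The point stabiliser case. -/
theorem borel_case (Q : QuadExt F E) (p : ℕ) [Fact p.Prime] [CharP E p] [CharP F p]
    {M : Subgroup (ProjGenLinGroup (Fin 2) F)} (hM : IsCoatom M)
    {k : ProjectiveSpecialLinearGroup (Fin 2) E} (hk : ∀ h ∈ M.map Q.iota, k * h * k⁻¹ ∈ borelPSL E)
    (hp : p ∣ Nat.card M) : Nat.card M = Nat.card F * (Nat.card F - 1) := by
  set ψ : ProjGenLinGroup (Fin 2) F →* ProjectiveSpecialLinearGroup (Fin 2) E :=
    (MulAut.conj k).toMonoidHom.comp Q.iota
  have hψi : Function.Injective ψ := (MulAut.conj k).injective.comp Q.iota_injective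
  set P := M ⊓ (upperPSL E).comap ψ with hP
  have hPp : IsPGroup p P := by
    obtain ⟨S, hS⟩ := exists_sylow_eq_upperPSL (F := E) p
    have h1 : IsPGroup p ((upperPSL E).comap ψ) :=
      (hS ▸ S.2 : IsPGroup p (upperPSL E)).comap_of_injective ψ hψi
    exact h1.to_le inf_le_right
  have hnorm : ∀ y ∈ M, ∀ u ∈ P, y * u * y⁻¹ ∈ P := fun y hy u hu =>
    ⟨M.mul_mem (M.mul_mem hy hu.1) (M.inv_mem hy), by
      show ψ (y * u * y⁻¹) ∈ upperPSL E
      rw [map_mul, map_mul, map_inv]
      exact borelPSL_conj (hk _ ⟨y, hy, rfl⟩) hu.2⟩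
  obtain ⟨u, hu⟩ := exists_prime_orderOf_dvd_card' p hp
  have huG : orderOf (u : ProjGenLinGroup (Fin 2) F) = p := by rw [Subgroup.orderOf_coe, hu]
  have huP : (u : ProjGenLinGroup (Fin 2) F) ∈ P := ⟨u.2, by
    refine mem_upperPSL_of_pow p (hk _ ⟨u, u.2, rfl⟩) ?_
    show ψ u ^ p = 1
    rw [← map_pow, ← huG, pow_orderOf_eq_one, map_one]⟩
  have hp2 : 2 < p := by
    have hp' : p.Prime := Fact.out
    have := hp'.two_le
    rcases Nat.lt_or_ge 2 p with h | h
    · exact h
    · exfalso
      obtain rfl : p = 2 := by omega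
      exact two_ne_zero_of_odd_card Q.odd' (CharP.cast_eq_zero E 2)
  have hpq : p ∣ Nat.card F := by
    let _ := Fintype.ofFinite F
    obtain ⟨n, -, hn⟩ := FiniteField.card F p
    rw [Fintype.card_eq_nat_card] at hn
    rw [hn]; exact dvd_pow_self _ n.pos.ne'
  have hΩ : ¬ p ∣ Nat.card (Projectivization F (Fin 2 → F)) := by
    rw [card_proj_line]
    intro h
    have : p ∣ 1 := (Nat.dvd_add_right hpq).1 h
    exact (Fact.out : p.Prime).one_lt.ne' (Nat.dvd_one.1 this)
  have : Finite (Projectivization F (Fin 2 → F)) := Nat.finite_of_card_ne_zero (by rw [card_proj_line]; omega)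
  obtain ⟨a, ha⟩ := hPp.nonempty_fixed_point_of_prime_not_dvd_card (Projectivization F (Fin 2 → F)) hΩ
  have hua : (u : ProjGenLinGroup (Fin 2) F) • a = a := ha ⟨u, huP⟩
  have huniq : ∀ b, (u : ProjGenLinGroup (Fin 2) F) • b = b → b = a := by
    intro b hb
    by_contra hne
    set U := Subgroup.zpowers (u : ProjGenLinGroup (Fin 2) F)
    have hUp : IsPGroup p U := IsPGroup.of_card (n := 1) (by rw [Nat.card_zpowers, huG, pow_one])
    have hmod := hUp.card_modEq_card_fixedPoints (Projectivization F (Fin 2 → F))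
    have hfix : ∀ c, (u : ProjGenLinGroup (Fin 2) F) • c = c → c ∈ MulAction.fixedPoints U (Projectivization F (Fin 2 → F)) := by
      rintro c hc ⟨g, hg⟩
      have hle : U ≤ MulAction.stabilizer (ProjGenLinGroup (Fin 2) F) c :=
        Subgroup.zpowers_le.2 (MulAction.mem_stabilizer_iff.2 hc)
      exact MulAction.mem_stabilizer_iff.1 (hle hg)
    have h2 : ({a, b} : Set (Projectivization F (Fin 2 → F))) = MulAction.fixedPoints U _ := by
      refine Set.Subset.antisymm ?_ ?_
      · rintro c (rfl | rfl)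
        exacts [hfix _ hua, hfix _ hb]
      · intro c hc
        by_contra hn
        simp only [Set.mem_insert_iff, Set.mem_singleton_iff, not_or] at hn
        have h1 := (Cfsg.Agent.S0266.result (F := F)).2 u a b c (fun e => hne e.symm) (fun e => hn.1 e.symm)
          (fun e => hn.2 e.symm) hua hb (hc ⟨u, Subgroup.mem_zpowers _⟩)
        rw [h1, orderOf_one] at huG
        omega
    rw [card_proj_line, Nat.card_coe_set_eq, ← h2, Set.ncard_pair (fun e => hne e.symm), Nat.ModEq,
      Nat.mod_eq_of_lt hp2, Nat.add_mod, Nat.mod_eq_zero_of_dvd hpq, zero_add, Nat.mod_mod,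
      Nat.mod_eq_of_lt (by omega : 1 < p)] at hmod
    omega
  have hle : M ≤ MulAction.stabilizer (ProjGenLinGroup (Fin 2) F) a := by
    intro y hy
    refine MulAction.mem_stabilizer_iff.2 (huniq _ ?_)
    have h1 : y⁻¹ * u * y ∈ P := by
      simpa using hnorm y⁻¹ (M.inv_mem hy) u huP
    have h2 : (y⁻¹ * u * y) • a = a := ha ⟨_, h1⟩
    calc (u : ProjGenLinGroup (Fin 2) F) • y • a = y • ((y⁻¹ * u * y) • a) := by
          rw [smul_smul, smul_smul]; group
      _ = y • a := by rw [h2]
  have : MulAction.IsPretransitive (ProjGenLinGroup (Fin 2) F) (Projectivization F (Fin 2 → F)) := by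
    have := (Cfsg.Agent.S0266.result (F := F)).1
    have : MulAction.IsMultiplyPretransitive (ProjGenLinGroup (Fin 2) F) (Projectivization F (Fin 2 → F)) 2 :=
      MulAction.isMultiplyPretransitive_of_le (n := 3) (by norm_num) (by
        rw [card_proj_line]; have := Finite.one_lt_card (α := F); omega)
    exact MulAction.isPretransitive_of_is_two_pretransitive
  have hi := MulAction.index_stabilizer_of_transitive (ProjGenLinGroup (Fin 2) F) a
  rw [card_proj_line] at hi
  have h1F : 1 < Nat.card F := Finite.one_lt_card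
  rcases hM.le_iff.1 hle with e | e
  · rw [e, Subgroup.index_top] at hi; omega
  · have h := M.card_mul_index
    rw [← e, hi, card_pgl, ← mul_assoc] at h
    rw [← e]
    exact Nat.eq_of_mul_eq_mul_right (by omega) h

/-- A dihedral subgroup of order eight of `PGL(2, 5)` is not maximal. -/
theorem not_coatom_five (hq : Nat.card F = 5) {M : Subgroup (ProjGenLinGroup (Fin 2) F)}
    (hM : IsCoatom M) (h8 : Nat.card M = 8) : False := by
  have hodd : Odd (Nat.card F) := hq ▸ (by decide)
  have hs := isSimple_LL (F := F) (by omega)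
  have hLc : Nat.card (LL F) = 60 := by
    have h := card_LL (F := F) hodd
    rw [card_pgl, hq] at h
    omega
  have hL : ¬ LL F ≤ M := fun h => by
    have := Subgroup.card_le_of_le h
    omega
  obtain ⟨-, hc⟩ := card_inf_LL hodd hM hL
  set V := (M ⊓ LL F).subgroupOf (LL F) with hV
  have hVc : Nat.card V = 4 := by
    rw [hV, Nat.card_congr (Subgroup.subgroupOfEquivOfLe inf_le_right).toEquiv]; omega
  have : Fact (Nat.Prime 2) := ⟨Nat.prime_two⟩
  have hf : 2 ^ (Nat.card (LL F)).factorization 2 = 4 := by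
    rw [hLc, show (60 : ℕ) = 2 ^ 2 * 15 from rfl, Nat.factorization_mul (by norm_num) (by norm_num),
      Nat.Prime.factorization_pow Nat.prime_two]
    simp [Nat.factorization_eq_zero_of_not_dvd (show ¬ 2 ∣ 15 by decide)]
  let P : Sylow 2 (LL F) := Sylow.ofCard V (by rw [hVc, hf])
  have hPV : (P : Subgroup (LL F)) = V := rfl
  have hcomm : ∀ a ∈ V, ∀ b ∈ V, a * b = b * a := by
    intro a ha b hb
    have := IsPGroup.isMulCommutative_of_card_eq_prime_sq (p := 2) (G := V) (by rw [hVc]; norm_num)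
    exact congrArg Subtype.val (this.is_comm.comm ⟨a, ha⟩ ⟨b, hb⟩)
  by_cases hN : Subgroup.normalizer (V : Set (LL F)) = V
  · have hle : Subgroup.normalizer ((P : Subgroup (LL F)) : Set (LL F)) ≤
        Subgroup.centralizer ((P : Subgroup (LL F)) : Set (LL F)) := by
      rw [hPV, hN]
      exact fun a ha => Subgroup.mem_centralizer_iff.2 fun b hb => hcomm b hb a ha
    have hK := MonoidHom.ker_transferSylow_isComplement' P hle
    set K := (MonoidHom.transferSylow P hle).ker
    have hKc : Nat.card K = 15 := by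
      have := hK.card_mul
      rw [hPV, hVc, hLc] at this
      omega
    rcases (inferInstance : K.Normal).eq_bot_or_eq_top with e | e
    · rw [e, Subgroup.card_bot] at hKc; omega
    · rw [e, Subgroup.card_top, hLc] at hKc; omega
  · obtain ⟨w, hw, hwV⟩ := SetLike.exists_of_lt (lt_of_le_of_ne Subgroup.le_normalizer (Ne.symm hN))
    set V' := M ⊓ LL F with hV'
    set N := Subgroup.normalizer (V' : Set (ProjGenLinGroup (Fin 2) F))
    have hMN : M ≤ N := fun y hy => by
      have := normal_LL (F := F) hodd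
      rw [CA.mem_normalizer_iff_forall]
      exact fun z hz => ⟨M.mul_mem (M.mul_mem hy hz.1) (M.inv_mem hy), Subgroup.Normal.conj_mem this z hz.2 y⟩
    have hwN : (w : ProjGenLinGroup (Fin 2) F) ∈ N := by
      rw [CA.mem_normalizer_iff_forall]
      intro z hz
      have := (Subgroup.mem_normalizer_iff.1 hw ⟨z, hz.2⟩).1 (Subgroup.mem_subgroupOf.2 hz)
      exact Subgroup.mem_subgroupOf.1 this
    have hwM : (w : ProjGenLinGroup (Fin 2) F) ∉ M := fun h => hwV (Subgroup.mem_subgroupOf.2 ⟨h, w.2⟩)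
    rcases hM.le_iff.1 hMN with e | e
    · have h1 : ∃ x ∈ V', x ≠ 1 := by
        by_contra hno
        push Not at hno
        have : V' = ⊥ := (Subgroup.eq_bot_iff_forall _).2 hno
        rw [this, Subgroup.card_bot] at hc
        omega
      obtain ⟨x, hx, hx1⟩ := h1
      have h2 := le_of_normalized (F := F) (by omega) (N := V')
        (fun g _ n hn => (CA.mem_normalizer_iff_forall.1 (show g ∈ N from e ▸ Subgroup.mem_top g)) n hn)
        hx hx.2 hx1
      exact hL (h2.trans inf_le_left)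
    · exact hwM (e ▸ hwN)

/-- The four types. -/
def PGLType (F : Type*) [Field F] (M : Subgroup (ProjGenLinGroup (Fin 2) F)) : Prop :=
  Nat.card M = Nat.card F * (Nat.card F - 1) ∨
  (∃ t, t ∈ M ∧ t ∉ LL F ∧
    (orderOf t = Nat.card F + 1 ∨ (orderOf t = Nat.card F - 1 ∧ Nat.card F ≠ 5)) ∧
    Nat.card M = 2 * orderOf t ∧ Nonempty (M ≃* DihedralGroup (orderOf t))) ∨
  ((Nat.card F).Prime ∧ (Nat.card F % 8 = 3 ∨ Nat.card F % 8 = 5) ∧ Nonempty (M ≃* Equiv.Perm (Fin 4))) ∨
  (∃ (F₀ : Type) (_ : Field F₀) (_ : Fintype F₀) (r : ℕ), r.Prime ∧ Odd r ∧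
    Nat.card F = Nat.card F₀ ^ r ∧ Nonempty (M ≃* ProjGenLinGroup (Fin 2) F₀))

theorem torus_case (Q : QuadExt F E) (p : ℕ) [Fact p.Prime] [CharP E p] [CharP F p] (h3 : 3 < Nat.card F)
    {M : Subgroup (ProjGenLinGroup (Fin 2) F)} (hM : IsCoatom M) {x : ProjGenLinGroup (Fin 2) F}
    (hx : Census.Semi p (Q.iota x)) (hle : M ≤ pN Q x) : PGLType F M := by
  obtain ⟨hT, -⟩ := card_pT Q hx
  obtain ⟨hNc, ⟨eD⟩⟩ := pN_facts Q hx
  have hMeq : M = pN Q x := by
    rcases hM.le_iff.1 hle with e | e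
    · exact absurd e (pN_ne_top Q hx)
    · exact e.symm
  subst hMeq
  obtain ⟨t, ht⟩ := (isCyclic_pT Q hx).exists_ofOrder_eq_natCard
  have htG : orderOf (t : ProjGenLinGroup (Fin 2) F) = Nat.card (pT Q x) := by rw [Subgroup.orderOf_coe, ht]
  have htL : (t : ProjGenLinGroup (Fin 2) F) ∉ LL F := by
    intro h
    obtain ⟨c, hc⟩ := h
    have hoc : orderOf c = Nat.card (pT Q x) := by
      rw [← htG, ← hc, orderOf_injective _ ProjectiveSpecialLinearGroup.toPGL_injective]
    have hnp : ¬ p ∣ orderOf c := by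
      let _ := Fintype.ofFinite F
      obtain ⟨n, -, hn⟩ := FiniteField.card F p
      rw [Fintype.card_eq_nat_card] at hn
      have hpq : p ∣ Nat.card F := hn ▸ dvd_pow_self _ n.pos.ne'
      intro hd
      rw [hoc] at hd
      have hp := (Fact.out : p.Prime).one_lt
      have hd1 : p ∣ 1 := by
        rcases hT with e | e <;> rw [e] at hd
        · exact (Nat.dvd_add_right hpq).1 hd
        · have := Nat.dvd_sub hpq hd
          rwa [show Nat.card F - (Nat.card F - 1) = 1 by omega] at this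
      exact hp.ne' (Nat.dvd_one.1 hd1)
    have h := orderOf_dvd_torus_orders (F := F) p c hnp
    rw [show Nat.gcd 2 (Nat.card F - 1) = 2 from dd_of_odd Q.odd, hoc] at h
    obtain ⟨j, hj⟩ := Q.odd
    rcases h with h | h
    · have := Nat.le_of_dvd (by omega) h
      omega
    · have := Nat.le_of_dvd (by omega) h
      omega
  refine Or.inr (Or.inl ⟨t, pT_le_pN Q x t.2, htL, ?_, by rw [htG, hNc], htG ▸ ⟨eD⟩⟩)
  rw [htG]
  rcases hT with e | e
  · exact Or.inl e
  · refine Or.inr ⟨e, fun h5 => not_coatom_five h5 hM ?_⟩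
    rw [hNc, e, h5]

/-- A subgroup over `K` which is at least half of `PGL(2, K)`. -/
theorem sub_case (hodd : Odd (Nat.card F)) (h3 : 3 < Nat.card F)
    {M : Subgroup (ProjGenLinGroup (Fin 2) F)} (hM : IsCoatom M) (hL : ¬ LL F ≤ M)
    {K : Type} [Field K] [Fintype K] (g : K →+* F) (D : GL (Fin 2) F) (hle : M ≤ (subHom g D).range)
    (hcard : Nat.card (ProjGenLinGroup (Fin 2) K) ≤ 2 * Nat.card M) : PGLType F M := by
  obtain ⟨hnle, hc⟩ := card_inf_LL hodd hM hL
  by_cases hk : Nat.card K = Nat.card F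
  · exfalso
    rw [card_pgl, hk, ← card_pgl, hc] at hcard
    set V := (M ⊓ LL F).subgroupOf (LL F)
    have hVc : Nat.card V = Nat.card (M ⊓ LL F : Subgroup _) :=
      Nat.card_congr (Subgroup.subgroupOfEquivOfLe inf_le_right).toEquiv
    have hV := V.card_mul_index
    rw [hVc] at hV
    have := card_LL (F := F) hodd
    have hi : V.index ≤ 2 := Nat.le_of_mul_le_mul_left (hV.trans_le (by omega)) Nat.card_pos
    have hi0 := Nat.pos_of_ne_zero V.index_ne_zero_of_finite
    have := isSimple_LL (F := F) (by omega)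
    rcases (show V.index = 1 ∨ V.index = 2 by omega) with h | h
    · rw [Subgroup.index_eq_one, Subgroup.subgroupOf_eq_top] at h
      exact hL (h.trans inf_le_left)
    · refine false_of_simple_index_two V h ?_
      have h4 : 4 * (3 * 5) ≤ Nat.card F * ((Nat.card F - 1) * (Nat.card F + 1)) :=
        Nat.mul_le_mul (by omega) (Nat.mul_le_mul (by omega) (by omega))
      rw [card_pgl] at *
      omega
  · obtain ⟨-, he, r, hr, hro, hq⟩ := coatom_sub hodd hM hnle g D hle hk
    exact Or.inr (Or.inr (Or.inr ⟨K, inferInstance, inferInstance, r, hr, hro, hq, he⟩))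

theorem perm_four_case (Q : QuadExt F E) (p : ℕ) [Fact p.Prime] [CharP E p] [CharP F p]
    (h3 : 3 < Nat.card F) {M : Subgroup (ProjGenLinGroup (Fin 2) F)} (hM : IsCoatom M) (hL : ¬ LL F ≤ M)
    (e : M ≃* Equiv.Perm (Fin 4)) : PGLType F M := by
  obtain ⟨hnle, hc⟩ := card_inf_LL Q.odd hM hL
  have h24 : Nat.card M = 24 := by rw [Nat.card_congr e.toEquiv, card_perm_four]
  set M0 := M ⊓ LL F with hM0
  let N := ((LL F).subgroupOf M).map e.toMonoidHom
  have hNi : N.index = 2 := by
    have h := N.card_mul_index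
    rw [show Nat.card N = Nat.card M0 by
      rw [Subgroup.card_map_of_injective e.injective, ← Subgroup.inf_subgroupOf_left (LL F) M,
        Nat.card_congr (Subgroup.subgroupOfEquivOfLe inf_le_left).toEquiv], card_perm_four] at h
    rw [h24] at hc
    rw [show Nat.card M0 = 12 by omega] at h
    omega
  have hN : N = alternatingGroup (Fin 4) := Equiv.Perm.eq_alternatingGroup_of_index_eq_two hNi
  -- the copy of `A₄`
  let φ0 : alternatingGroup (Fin 4) →* ProjGenLinGroup (Fin 2) F :=
    M.subtype.comp (e.symm.toMonoidHom.comp (alternatingGroup (Fin 4)).subtype)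
  have hφ0i : Function.Injective φ0 :=
    M.subtype_injective.comp (e.symm.injective.comp (alternatingGroup (Fin 4)).subtype_injective)
  have hφ0L : ∀ a, φ0 a ∈ LL F := by
    intro a
    obtain ⟨y, hy, hya⟩ := (show (a : Equiv.Perm (Fin 4)) ∈ N by rw [hN]; exact a.2)
    have : e.symm (a : Equiv.Perm (Fin 4)) = y := e.injective (by rw [MulEquiv.apply_symm_apply]; exact hya.symm)
    show ((e.symm (a : Equiv.Perm (Fin 4)) : M) : ProjGenLinGroup (Fin 2) F) ∈ LL F
    rw [this]; exact hy
  have hM0eq : M0 = φ0.range := by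
    have hle : φ0.range ≤ M0 := by
      rintro _ ⟨a, rfl⟩; exact ⟨(e.symm (a : Equiv.Perm (Fin 4))).2, hφ0L a⟩
    refine (Subgroup.eq_of_le_of_card_ge hle ?_).symm
    rw [← Nat.card_congr (MonoidHom.ofInjective hφ0i).toEquiv, card_alternating_four]
    omega
  let T := ProjectiveSpecialLinearGroup.toPGL (n := Fin 2) (R := F)
  let φ : alternatingGroup (Fin 4) →* ProjectiveSpecialLinearGroup (Fin 2) F :=
    (MonoidHom.ofInjective (f := T) ProjectiveSpecialLinearGroup.toPGL_injective).symm.toMonoidHom.comp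
      (φ0.codRestrict _ hφ0L)
  have hTφ : ∀ a, T (φ a) = φ0 a := fun a =>
    MonoidHom.apply_ofInjective_symm (f := T) ProjectiveSpecialLinearGroup.toPGL_injective _
  have hφi : Function.Injective φ := fun a b h => hφ0i (by rw [← hTφ, ← hTφ, h])
  have hMnorm : ∀ y ∈ M, ∀ a, ∃ a', y * φ0 a * y⁻¹ = φ0 a' := by
    intro y hy a
    have h1 : y * φ0 a * y⁻¹ ∈ M0 := by
      refine ⟨M.mul_mem (M.mul_mem hy (e.symm (a : Equiv.Perm (Fin 4))).2) (M.inv_mem hy), ?_⟩
      exact (normal_LL Q.odd).conj_mem _ (hφ0L a) y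
    rw [hM0eq] at h1
    obtain ⟨a', ha'⟩ := h1
    exact ⟨a', ha'.symm⟩
  let _ := Fintype.ofFinite F
  obtain ⟨n, hp, hq⟩ := FiniteField.card F p
  rw [Fintype.card_eq_nat_card] at hq
  have hpo : Odd p := (Nat.odd_pow_iff n.pos.ne').1 (hq ▸ Q.odd)
  by_cases hn : (n : ℕ) = 1
  · rw [hn, pow_one] at hq
    have h8 : p % 8 = 3 ∨ p % 8 = 5 := by
      by_contra h8
      obtain ⟨S, ⟨eS⟩⟩ := (Cfsg.Agent.S0803.result (F := F) Fintype.card_eq_nat_card).2 (by
        rw [hq, Nat.pow_mod]
        obtain ⟨j, hj⟩ := hpo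
        have : p % 16 = 1 ∨ p % 16 = 7 ∨ p % 16 = 9 ∨ p % 16 = 15 := by omega
        rcases this with e | e | e | e <;> rw [e])
      obtain ⟨φ', hφ'⟩ := exists_hom_of_perm_four eS
      obtain ⟨D, hD⟩ := exists_conj_four Q.odd φ (S.subtype.comp φ') hφi (S.subtype_injective.comp hφ')
      set S' := S.map (pslConj D) with hS'
      have hS'c : Nat.card S' = 24 := by
        rw [hS', Subgroup.card_map_of_injective (pslConj_injective D), Nat.card_congr eS.toEquiv, card_perm_four]
      have hle : φ.range ≤ S' := hD.trans (Subgroup.map_mono (by rintro _ ⟨a, rfl⟩; exact (φ' a).2))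
      have hi : (φ.range.subgroupOf S').index = 2 := by
        have h := (φ.range.subgroupOf S').card_mul_index
        rw [Nat.card_congr (Subgroup.subgroupOfEquivOfLe hle).toEquiv,
          ← Nat.card_congr (MonoidHom.ofInjective hφi).toEquiv, card_alternating_four, hS'c] at h
        omega
      have hn2 := Subgroup.normal_of_index_eq_two hi
      set W := Subgroup.normalizer (M0 : Set (ProjGenLinGroup (Fin 2) F))
      have hMW : M ≤ W := fun y hy => CA.mem_normalizer_iff_forall.2 fun z hz => by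
        rw [hM0eq] at hz ⊢
        obtain ⟨a, rfl⟩ := hz
        obtain ⟨a', ha'⟩ := hMnorm y hy a
        exact ⟨a', ha'.symm⟩
      have hSW : S'.map T ≤ W := by
        rintro _ ⟨s, hs, rfl⟩
        refine CA.mem_normalizer_iff_forall.2 fun z hz => ?_
        rw [hM0eq] at hz ⊢
        obtain ⟨a, rfl⟩ := hz
        obtain ⟨a', ha'⟩ := hn2.conj_mem ⟨φ a, hle ⟨a, rfl⟩⟩ ⟨a, rfl⟩ ⟨s, hs⟩
        refine ⟨a', ?_⟩
        rw [← hTφ, ← hTφ, ← map_inv, ← map_mul, ← map_mul]
        exact congrArg T ha'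
      rcases hM.le_iff.1 hMW with hW | hW
      · have hx : ∃ x ∈ M0, x ≠ 1 := by
          by_contra hno
          push Not at hno
          have : M0 = ⊥ := (Subgroup.eq_bot_iff_forall _).2 hno
          rw [this, Subgroup.card_bot] at hc
          omega
        obtain ⟨x, hx, hx1⟩ := hx
        exact hL ((le_of_normalized (F := F) (by omega) (N := M0)
          (fun g _ z hz => (CA.mem_normalizer_iff_forall.1 (show g ∈ W from hW ▸ Subgroup.mem_top g)) z hz)
          hx hx.2 hx1).trans inf_le_left)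
      · have h1 : S'.map T ≤ M0 := le_inf (hSW.trans hW.le) (by rintro _ ⟨s, -, rfl⟩; exact ⟨s, rfl⟩)
        have h2 := Subgroup.card_le_of_le h1
        rw [Subgroup.card_map_of_injective ProjectiveSpecialLinearGroup.toPGL_injective, hS'c] at h2
        omega
    exact Or.inr (Or.inr (Or.inl ⟨hq ▸ hp, hq ▸ h8, ⟨e⟩⟩))
  · -- rigidity puts `M` over the prime field
    obtain ⟨u, v, a, b, hall, hpa, hpb, hns, hta, htb, hs⟩ := exists_four_lifts φ hφi
    let _ : Fintype (ZMod p) := ZMod.fintype p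
    let f0 : ZMod p →+* F := ZMod.castHom (dvd_refl p) F
    have hKo : Odd (Nat.card (ZMod p)) := by rw [Nat.card_zmod]; exact hpo
    obtain ⟨x0, y0, hxy⟩ := exists_xy hKo (1 : ZMod p)
    have hs' : ((a * b : SL(2, F)) : Matrix (Fin 2) (Fin 2) F).trace = f0 1 := by rw [hs, map_one]
    obtain ⟨D, hα, hβ⟩ := exists_frame f0 1 (by rw [map_one]; exact one_sq_ne_three Q.odd) ⟨x0, y0, hxy⟩
      a b hpa hpb hns hta htb hs'
    -- the frame read in the extension
    set DE := GeneralLinearGroup.map Q.j D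
    set fE := Q.j.comp f0
    set aE := Matrix.SpecialLinearGroup.map Q.j a
    set bE := Matrix.SpecialLinearGroup.map Q.j b
    have htr : ∀ A : Matrix (Fin 2) (Fin 2) F, (A.map Q.j).trace = Q.j A.trace := trace_map_eq Q.j
    have hiota : ∀ X : SL(2, F), Q.iota (T (proj X)) = proj (Matrix.SpecialLinearGroup.map Q.j X) := fun X => by
      refine ProjectiveSpecialLinearGroup.toPGL_injective ?_
      rw [Q.toPGL_iota]
      exact congrArg ProjGenLinGroup.mk (Units.ext rfl)
    have hmemS : ∀ z, Q.iota (φ0 z) ∈ pslSub fE DE := by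
      intro z
      have hz : φ z ∈ pslSub f0 D := by
        obtain ⟨i, j, k, rfl⟩ := hall z
        rw [map_mul, map_mul, map_pow, map_pow, map_pow]
        exact mul_mem (mul_mem (pow_mem hβ _) (pow_mem hα _)) (pow_mem hβ _)
      obtain ⟨X, hX⟩ := proj_surjective (φ z)
      obtain ⟨Z, hZ⟩ := exists_of_mem_pslSub f0 D (hX.symm ▸ hz)
      rw [← hTφ, ← hX, hiota]
      refine proj_mem_pslSub fE DE (Z := Z) ?_
      show (X : Matrix (Fin 2) (Fin 2) F).map Q.j * (D : Matrix (Fin 2) (Fin 2) F).map Q.j =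
        (D : Matrix (Fin 2) (Fin 2) F).map Q.j * (Z : Matrix (Fin 2) (Fin 2) (ZMod p)).map fE
      rw [← Matrix.map_mul, hZ, Matrix.map_mul, Matrix.map_map]
      rfl
    have hαE : Q.iota (φ0 u) = proj aE := by rw [← hTφ, ← hpa, hiota]
    have hβE : Q.iota (φ0 v) = proj bE := by rw [← hTφ, ← hpb, hiota]
    have hle : M.map Q.iota ≤ pglSub fE DE := by
      rintro _ ⟨y, hy, rfl⟩
      obtain ⟨u', hu'⟩ := hMnorm y hy u
      obtain ⟨v', hv'⟩ := hMnorm y hy v
      refine mem_pglSub_of_conj fE DE 1 (by rw [map_one]; exact one_sq_ne_three Q.odd') aE bE hαE.symm hβE.symm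
        ?_ ?_ ?_ ?_ (hmemS u) (hmemS v) ?_ ?_
      · rw [nonScalar_iff] at hns ⊢
        simp only [aE, Matrix.SpecialLinearGroup.map_apply_coe, RingHom.mapMatrix_apply, Matrix.map_apply,
          Q.j.injective.ne_iff]
        rcases hns with h | h | h
        · exact Or.inl fun e => h (Q.j.injective (by rw [map_zero]; exact e))
        · exact Or.inr (Or.inl fun e => h (Q.j.injective (by rw [map_zero]; exact e)))
        · exact Or.inr (Or.inr h)
      · exact (htr _).trans (by rw [hta, map_zero])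
      · exact (htr _).trans (by rw [htb, map_one])
      · show ((Matrix.SpecialLinearGroup.map Q.j a * Matrix.SpecialLinearGroup.map Q.j b : SL(2, E)) :
          Matrix (Fin 2) (Fin 2) E).trace = fE 1
        rw [← map_mul]
        exact (htr _).trans (by rw [hs', RingHom.comp_apply])
      · rw [← map_inv, ← map_mul, ← map_mul, hu']; exact hmemS u'
      · rw [← map_inv, ← map_mul, ← map_mul, hv']; exact hmemS v'
    have hle' : M ≤ (subHom f0 D).range := by
      intro y hy
      obtain ⟨z, hz⟩ := hle ⟨y, hy, rfl⟩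
      obtain ⟨Z, rfl⟩ := ProjGenLinGroup.mk_surjective z
      refine ⟨ProjGenLinGroup.mk Z, pglMap_coe_injective Q.j ?_⟩
      rw [← Q.toPGL_iota y, ← hz]
      show ProjGenLinGroup.map Q.j (ProjGenLinGroup.mk D * ProjGenLinGroup.map f0 (ProjGenLinGroup.mk Z) *
        (ProjGenLinGroup.mk D)⁻¹) = ProjGenLinGroup.mk DE * ProjGenLinGroup.map fE (ProjGenLinGroup.mk Z) *
        (ProjGenLinGroup.mk DE)⁻¹
      rw [map_mul, map_mul, map_inv]
      rfl
    have hk : Nat.card (ZMod p) ≠ Nat.card F := by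
      rw [Nat.card_zmod, hq]
      intro h
      exact hn (Nat.pow_right_injective hp.two_le (show p ^ (n : ℕ) = p ^ 1 by rw [pow_one]; exact h.symm))
    obtain ⟨-, he, r, hr, hro, hqr⟩ := coatom_sub Q.odd hM hnle f0 D hle' hk
    exact Or.inr (Or.inr (Or.inr ⟨ZMod p, inferInstance, inferInstance, r, hr, hro, hqr, he⟩))

/-- The classification. -/
theorem pgl_types (hodd : Odd (Nat.card F)) (h3 : 3 < Nat.card F)
    {M : Subgroup (ProjGenLinGroup (Fin 2) F)} (hM : IsCoatom M) (hL : ¬ LL F ≤ M) : PGLType F M := by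
  obtain ⟨E, _, _, ⟨Q⟩⟩ := exists_quadExt (F := F) hodd
  obtain ⟨p, n, hp, hchar, hn, hqp⟩ := exists_prime_pow F
  have := Fact.mk hp
  have : CharP E p := (Q.j.charP_iff Q.j.injective p).1 hchar
  obtain ⟨hnle, hc⟩ := card_inf_LL hodd hM hL
  set M' := M.map Q.iota with hM'
  let e' : M ≃* M' := M.equivMapOfInjective _ Q.iota_injective
  rcases dickson_maximal_in p M' with ⟨c, ⟨x, hx, rfl⟩, hc', h⟩ | ⟨k, hk⟩ | ⟨⟨e⟩⟩ | ⟨⟨e⟩⟩ | ⟨⟨e⟩⟩ | hs
  · exact torus_case Q p h3 hM hc' fun y hy => h ⟨y, hy, rfl⟩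
  · by_cases hpM : p ∣ Nat.card M
    · exact Or.inl (borel_case Q p hM hk hpM)
    · -- cyclic: inside a torus
      have hcyc : IsCyclic M := by
        have hle : M'.map (MulAut.conj k).toMonoidHom ≤ borelPSL E := by
          rintro _ ⟨h, hh, rfl⟩; exact hk h hh
        have hc2 : Nat.card (M'.map (MulAut.conj k).toMonoidHom) = Nat.card M := by
          rw [card_map_conj, Nat.card_congr e'.toEquiv]
        have hcy := isCyclic_of_le_borelPSL p hle (hc2 ▸ hpM)
        exact (e'.trans (M'.equivMapOfInjective _ (MulAut.conj k).injective)).isCyclic.2 hcy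
      obtain ⟨x, hx⟩ := hcyc.exists_ofOrder_eq_natCard
      have hx1 : (x : ProjGenLinGroup (Fin 2) F) ≠ 1 := fun h => by
        have : orderOf (x : ProjGenLinGroup (Fin 2) F) = 1 := by rw [h, orderOf_one]
        rw [Subgroup.orderOf_coe, hx] at this
        omega
      have hsemi : Census.Semi p (Q.iota x) :=
        ⟨fun h => hx1 (Q.iota_injective (by rw [h, map_one])), by
          rw [orderOf_injective _ Q.iota_injective, Subgroup.orderOf_coe, hx]; exact hpM⟩
      refine torus_case Q p h3 hM hsemi fun y hy => mem_pN_of_conj Q hsemi ?_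
      let _ := hcyc.commGroup
      have : (⟨y, hy⟩ : M) * x * (⟨y, hy⟩ : M)⁻¹ = x := mul_inv_cancel_comm _ _
      rw [show y * (x : ProjGenLinGroup (Fin 2) F) * y⁻¹ = x from congrArg Subtype.val this]
      exact self_mem_pT Q _
  · exact absurd (le_LL_of_four hodd (e'.trans e)) hnle
  · exact perm_four_case Q p h3 hM hL (e'.trans e)
  · exact (le_LL_of_five hodd hM hL (e'.trans e)).elim
  · obtain ⟨K, fK, fT, m, hm, hd, f, D, hz⟩ := hs
    rw [Fintype.card_eq_nat_card] at hm
    have hle : M' ≤ pglSub f D := by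
      intro y hy
      obtain ⟨z, hz⟩ := hz ⟨y, hy⟩
      refine ⟨ProjGenLinGroup.mk z, ?_⟩
      rw [show ProjectiveSpecialLinearGroup.toPGL y = _ from hz]
      show ProjGenLinGroup.mk D * ProjGenLinGroup.mk _ * (ProjGenLinGroup.mk D)⁻¹ = _
      rw [← map_inv, ← map_mul, ← map_mul]
    have hcard : Nat.card (ProjGenLinGroup (Fin 2) K) ≤ 2 * Nat.card M := by
      rw [Nat.card_congr e'.toEquiv]
      rcases hd with ⟨⟨e⟩⟩ | ⟨⟨e⟩⟩
      · have h := card_PSL (F := K)
        rw [← card_pgl, ← Nat.card_congr e.toEquiv] at h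
        rw [← h]
        exact Nat.mul_le_mul_right _ (dd_le (F := K))
      · rw [← Nat.card_congr e.toEquiv]; omega
    obtain ⟨g, D', hg⟩ := exists_sub_frame Q p f D hle hcard
    exact sub_case hodd h3 hM hL g D' hg hcard

end CfsgLib.SL2.PGLMax
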